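import Groth.Agent.PerfLib.TopCohomology
import Groth.Agent.PerfLib.LocalLift
import Groth.Agent.KFlatLib.FlatRes
import Groth.Agent.S1688

/-!
# Kernels of epimorphisms of finite locally free modules
-/

set_option autoImplicit false
set_option linter.style.haveILetI false

universe u

open CategoryTheory CategoryTheory.Limits AlgebraicGeometry

namespace ResPropLib

open Groth.Agent

variable {X : Scheme.{u}}

theorem isFlat_of_retract {M N : X.Modules} (i : M ⟶ N) (r : N ⟶ M) (h : i ≫ r = 𝟙 M)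
    (hN : FlatMod.IsFlat N) : FlatMod.IsFlat M := fun x => by
  have hflat : Module.Flat (X.presheaf.stalk x) ((DerSch.stalkFunctor X x).obj N) := hN x
  show Module.Flat (X.presheaf.stalk x) ((DerSch.stalkFunctor X x).obj M)
  refine Module.Flat.of_retract ((DerSch.stalkFunctor X x).map i).hom ((DerSch.stalkFunctor X x).map r).hom ?_
  rw [← ModuleCat.hom_comp, ← Functor.map_comp, h, CategoryTheory.Functor.map_id]
  rfl

theorem isFinLocFree_kernel_of_splitEpi {E G : X.Modules} (p : E ⟶ G) (k : G ⟶ E) (hk : k ≫ p = 𝟙 G)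
    (hE : KFlatLib.IsFinFree E) : FlatMod.IsFinLocFree (kernel p) := by
  let r : E ⟶ kernel p := kernel.lift p (𝟙 E - p ≫ k) (by simp [hk])
  have hir : kernel.ι p ≫ r = 𝟙 _ := by
    rw [← cancel_mono (kernel.ι p)]
    simp [r]
  let e : cokernel (p ≫ k) ≅ kernel p :=
    { hom := cokernel.desc _ r (by rw [← cancel_mono (kernel.ι p)]; simp [r, reassoc_of% hk])
      inv := kernel.ι p ≫ cokernel.π _
      hom_inv_id := by
        apply coequalizer.hom_ext
        simp [r, cokernel.condition]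
      inv_hom_id := by simp [hir] }
  refine S1688.isFinLocFree_of_isFP_of_flat (PerfLib.isFP_of_local fun x =>
    ⟨X, 𝟙 X, inferInstance, x, rfl, (PerfLib.FPFree.res (𝟙 X) ⟨E, E, p ≫ k, hE, hE, ⟨e⟩⟩)⟩) ?_
  exact isFlat_of_retract _ r hir (KFlatLib.isFlat_of_isFinLocFree (KFlatLib.isFinLocFree_of_isFinFree hE))

/-- The kernel of an epimorphism of finite locally free modules is finite locally free. -/
theorem isFinLocFree_kernel {E G : X.Modules} (p : E ⟶ G) [Epi p] (hE : FlatMod.IsFinLocFree E)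
    (hG : FlatMod.IsFinLocFree G) : FlatMod.IsFinLocFree (kernel p) := fun x => by
  obtain ⟨W, n, hxW, ⟨e⟩⟩ := hE x
  haveI : Epi ((PerfLib.res W.ι).map p) := inferInstance
  obtain ⟨V, j, hj, v, k, hv, hk⟩ := PerfLib.exists_lift_locFree (PerfLib.isFinLocFree_res W.ι hG)
    (𝟙 _) ((PerfLib.res W.ι).map p) (⟨x, hxW⟩ : W)
  rw [CategoryTheory.Functor.map_id] at hk
  have hK := isFinLocFree_kernel_of_splitEpi ((PerfLib.res j).map ((PerfLib.res W.ι).map p)) k hk
    (PerfLib.isFinFree_res j ⟨n, ⟨e⟩⟩)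
  have hK' : FlatMod.IsFinLocFree ((PerfLib.res j).obj ((PerfLib.res W.ι).obj (kernel p))) :=
    PerfLib.isFinLocFree_of_iso ((PreservesKernel.iso (PerfLib.res W.ι ⋙ PerfLib.res j) p).symm) hK
  obtain ⟨U, m, hvU, ⟨eU⟩⟩ := hK' v
  obtain ⟨O, hxO, m', ⟨eO⟩⟩ := PerfLib.exists_opens_of_local (M := kernel p)
    (Q := fun {_} N => KFlatLib.IsFinFree N) (fun g _ _ hN => PerfLib.isFinFree_res g hN)
    (fun i hN => KFlatLib.isFinFree_of_iso i hN) (U.ι ≫ j ≫ W.ι) (v := ⟨v, hvU⟩) (x := x)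
    (show W.ι (j v) = x by rw [hv]; rfl)
    (KFlatLib.isFinFree_of_iso
      ((PerfLib.res U.ι).mapIso ((Scheme.Modules.restrictFunctorComp j W.ι).symm.app (kernel p)) ≪≫
        (Scheme.Modules.restrictFunctorComp U.ι (j ≫ W.ι)).symm.app (kernel p)) ⟨m, ⟨eU⟩⟩)
  exact ⟨O, m', hxO, ⟨eO⟩⟩

end ResPropLib
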