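import Groth.Agent.ResPropLib.Main
import Groth.Agent.S4269
import Groth.Agent.S2122
import Groth.Agent.KiehlLib.Base
import Groth.Agent.AmpleDevLib.Devissage

/-!
# Resolutions by negative powers of an ample family
-/

set_option autoImplicit false
set_option linter.style.haveILetI false
set_option backward.isDefEq.respectTransparency false
set_option backward.isDefEq.respectTransparency.types false

universe u

open CategoryTheory CategoryTheory.Limits AlgebraicGeometry Pretriangulated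
open HomologicalComplex CochainComplex
open CategoryTheory.Abelian (Ext)
open scoped ZeroObject

attribute [local instance] HasDerivedCategory.standard

namespace ResPropLib

open Groth.Agent Groth.Agent.PerfLib

section Biproduct

variable {C : Type*} [Category C] [Preadditive C] [HasFiniteBiproducts C] [HasBinaryBiproducts C]

/-- A finite biproduct splits off its first summand. -/
noncomputable def biproductSuccIso {r : ℕ} (L : Fin (r + 1) → C) : ⨁ L ≅ L 0 ⊞ ⨁ (fun i : Fin r => L i.succ) where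
  hom := biprod.lift (biproduct.π L 0) (biproduct.lift fun i : Fin r => biproduct.π L i.succ)
  inv := biprod.desc (biproduct.ι L 0) (biproduct.desc fun i : Fin r => biproduct.ι L i.succ)
  hom_inv_id := by
    rw [biprod.lift_desc, biproduct.lift_desc, ← biproduct.total, Fin.sum_univ_succ]
  inv_hom_id := by
    apply biprod.hom_ext'
    · apply biprod.hom_ext
      · simp
      · simp only [biprod.inl_desc_assoc, Category.assoc, biprod.lift_snd, Category.comp_id, biprod.inl_snd]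
        refine biproduct.hom_ext _ _ fun i => ?_
        simp [biproduct.ι_π, (Fin.succ_ne_zero i).symm]
    · refine biproduct.hom_ext' _ _ fun j => ?_
      apply biprod.hom_ext
      · simp [biproduct.ι_π, Fin.succ_ne_zero j]
      · simp only [biprod.inr_desc_assoc, biproduct.ι_desc_assoc, Category.assoc, biprod.lift_snd,
          Category.comp_id, biprod.inr_snd]
        refine biproduct.hom_ext _ _ fun i => ?_
        rcases eq_or_ne j i with rfl | h
        · simp
        · simp [biproduct.ι_π, h, (Fin.succ_injective _).ne h]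

end Biproduct

variable {X : Scheme.{u}}

theorem isFinLocFree_biproduct' : ∀ {r : ℕ} (L : Fin r → X.Modules),
    (∀ i, FlatMod.IsFinLocFree (L i)) → FlatMod.IsFinLocFree (⨁ L)
  | 0, L, _ => KFlatLib.isFinLocFree_of_isFinFree (KFlatLib.isFinFree_of_isZero
      ((IsZero.iff_id_eq_zero _).2 (biproduct.hom_ext _ _ fun i => i.elim0)))
  | r + 1, L, h => isFinLocFree_of_iso (biproductSuccIso L).symm
      (isFinLocFree_biprod (h 0) (isFinLocFree_biproduct' (fun i : Fin r => L i.succ) fun i => h i.succ))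

theorem isFinLocFree_of_inAddL {ι : Type u} {L : ι → X.Modules} {M : X.Modules} (h : KSix.InAddL L M) :
    FlatMod.IsFinLocFree M := by
  obtain ⟨k, N, hN, ⟨e⟩⟩ := h
  refine isFinLocFree_of_iso e.symm (isFinLocFree_biproduct' N fun j => ?_)
  obtain ⟨i, n, -, ⟨en⟩⟩ := hN j
  exact AmpleDevLib.isFinLocFree_of_isInvertible (S2122.result _ _ en)

theorem inAddL_of_iso {ι : Type u} {L : ι → X.Modules} {M N : X.Modules} (e : M ≅ N) (h : KSix.InAddL L M) :
    KSix.InAddL L N := by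
  obtain ⟨k, N', hN, ⟨e'⟩⟩ := h
  exact ⟨k, N', hN, ⟨e.symm ≪≫ e'⟩⟩

theorem inAddL_of_isZero {ι : Type u} {L : ι → X.Modules} {M : X.Modules} (h : IsZero M) : KSix.InAddL L M :=
  ⟨0, Fin.elim0, fun j => j.elim0,
    ⟨h.iso ((IsZero.iff_id_eq_zero _).2 (biproduct.hom_ext _ _ fun i => i.elim0))⟩⟩

theorem hasResolutionProperty_of_isAmpleFamily {ι : Type u} (L : ι → X.Modules) (hL : KSix.IsAmpleFamily L) :
    PerfAux.HasResolutionProperty X := fun M hM hM' => by
  obtain ⟨E, π, hE, hπ⟩ := S4269.result X L hL M hM hM'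
  exact ⟨E, π, isFinLocFree_of_inAddL hE, hπ⟩

/-- A finite locally free module is covered by negative powers of an ample family. -/
theorem exists_inAddL_epi {ι : Type u} (L : ι → X.Modules) (hL : KSix.IsAmpleFamily L) (G : X.Modules)
    (hG : FlatMod.IsFinLocFree G) : ∃ (M : X.Modules) (π : M ⟶ G), KSix.InAddL L M ∧ Epi π :=
  S4269.result X L hL G (FinLFAnn.isQCoh_of_isFinLocFree hG)
    (isFT_of_vb hG)

variable [CompactSpace X] [QuasiSeparatedSpace X]

/-- One step of an approximation, with control on the terms. -/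
theorem exists_step (Q : X.Modules → Prop) (hQ : ∀ G, Q G → FlatMod.IsFinLocFree G)
    (hQi : ∀ ⦃G H : X.Modules⦄, (G ≅ H) → Q G → Q H)
    (hQe : ∀ G, FlatMod.IsFinLocFree G → ∃ (M : X.Modules) (π : M ⟶ G), Q M ∧ Epi π)
    {E F : CochainComplex X.Modules ℤ} (φ : E ⟶ F) (hlift : LiftProp F) (m : ℤ)
    (hE : DCoh.IsStrictlyPerfect E) (hEm : ∀ i, i < m → IsZero (E.X i)) (hEQ : ∀ i, Q (E.X i))
    (hC : ∀ i, m ≤ i → (mappingCone φ).ExactAt i) (hft : CohB1.IsFT ((mappingCone φ).homology (m - 1))) :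
    ∃ (E' : CochainComplex X.Modules ℤ) (χ : E ⟶ E') (φ' : E' ⟶ F), χ ≫ φ' = φ ∧
      DCoh.IsStrictlyPerfect E' ∧ (∀ i, i < m - 1 → IsZero (E'.X i)) ∧ (∀ i, Q (E'.X i)) ∧
      (∀ i, m - 1 ≤ i → (mappingCone φ').ExactAt i) ∧ (∀ i, m ≤ i → IsIso (χ.f i)) := by
  obtain ⟨G₀, l₀, hG₀, hl₀⟩ := hlift E φ (m - 1) hE hft
  obtain ⟨G, π, hG, hπ⟩ := hQe G₀ hG₀
  haveI : Epi ((π ≫ l₀) ≫ (mappingCone φ).homologyπ (m - 1)) := by
    rw [Category.assoc]; exact epi_comp _ _
  obtain ⟨ψ, φ', h', -, hcomp⟩ := exists_kill φ m hC (π ≫ l₀)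
  obtain ⟨hE', hEm'⟩ := cone_source_props (hQ _ hG) hE m ψ hEm
  have hiso : ∀ i, i ≠ m - 1 → IsIso ((mappingCone.inr ψ).f i) := fun i hi =>
    isIso_inr_f ψ i (HomologicalComplex.isZero_single_obj_X _ _ _ _ (by omega))
  refine ⟨_, mappingCone.inr ψ, φ', hcomp, hE', hEm', fun i => ?_, h', fun i hi => hiso i (by omega)⟩
  by_cases hi : i = m - 1
  · subst hi
    haveI := isIso_inl_v ψ m (m - 1) (by omega) (hEm _ (by omega))
    exact hQi ((HomologicalComplex.singleObjXSelf (ComplexShape.up ℤ) m G).symm ≪≫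
      asIso ((mappingCone.inl ψ).v m (m - 1) _)) hG
  · haveI := hiso i hi
    exact hQi (asIso ((mappingCone.inr ψ).f i)) (hEQ i)

/-- The start of an approximation. -/
theorem exists_start (F : CochainComplex X.Modules ℤ) (b : ℤ) (hb : ∀ i, b < i → F.ExactAt i) :
    ∃ (E : CochainComplex X.Modules ℤ) (φ : E ⟶ F), DCoh.IsStrictlyPerfect E ∧ (∀ i, IsZero (E.X i)) ∧
      ∀ i, b + 1 ≤ i → (mappingCone φ).ExactAt i := by
  have hz : ∀ i, IsZero ((0 : CochainComplex X.Modules ℤ).X i) := fun i =>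
    Functor.map_isZero (HomologicalComplex.eval _ _ i) (isZero_zero _)
  refine ⟨0, 0, ⟨⟨b, b, fun i _ => hz i⟩, fun i =>
    KFlatLib.isFinLocFree_of_isFinFree (KFlatLib.isFinFree_of_isZero (hz i))⟩, hz, fun i hi => ?_⟩
  haveI := isIso_inr_f (0 : (0 : CochainComplex X.Modules ℤ) ⟶ F) (i - 1) (hz _)
  haveI := isIso_inr_f (0 : (0 : CochainComplex X.Modules ℤ) ⟶ F) i (hz _)
  haveI := isIso_inr_f (0 : (0 : CochainComplex X.Modules ℤ) ⟶ F) (i + 1) (hz _)
  exact exactAt_of_isIso (mappingCone.inr (0 : (0 : CochainComplex X.Modules ℤ) ⟶ F)) i (hb i (by omega))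

/-- Perfect objects of given amplitude. -/
theorem exists_amplitude_resolution (Q : X.Modules → Prop) (hQ : ∀ G, Q G → FlatMod.IsFinLocFree G)
    (hQi : ∀ ⦃G H : X.Modules⦄, (G ≅ H) → Q G → Q H) (hQ0 : ∀ ⦃G : X.Modules⦄, IsZero G → Q G)
    (hQe : ∀ G, FlatMod.IsFinLocFree G → ∃ (M : X.Modules) (π : M ⟶ G), Q M ∧ Epi π)
    (F : CochainComplex X.Modules ℤ) (hlift : LiftProp F) (hF : DCoh.IsPerfect (DCoh.toD X F))
    (a b : ℤ) (hab : a ≤ b) (hFa : ∀ n, n < a → IsZero (F.X n)) (hb : ∀ i, b < i → F.ExactAt i)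
    (hmod : ∀ x : X, ∃ (V : Scheme.{u}) (j : V ⟶ X) (_ : IsOpenImmersion j) (v : V)
        (P : CochainComplex V.Modules ℤ), j v = x ∧ DCoh.IsStrictlyPerfect P ∧
        (∀ i, i < a → IsZero (P.X i)) ∧ Nonempty ((resD j).obj (DCoh.toD X F) ≅ DCoh.toD V P)) :
    ∃ (E : CochainComplex X.Modules ℤ) (φ : E ⟶ F), QuasiIso φ ∧ DCoh.VanishesOutside E a b ∧
      (∀ i, a < i → Q (E.X i)) ∧ FlatMod.IsFinLocFree (E.X a) := by
  suffices key : ∀ d : ℕ, a + 1 ≤ b + 1 - d → ∃ (E : CochainComplex X.Modules ℤ) (φ : E ⟶ F),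
      DCoh.IsStrictlyPerfect E ∧ (∀ i, i < b + 1 - d ∨ b < i → IsZero (E.X i)) ∧ (∀ i, Q (E.X i)) ∧
      ∀ i, b + 1 - d ≤ i → (mappingCone φ).ExactAt i by
    obtain ⟨m, d, hm, rfl⟩ : ∃ (m : ℤ) (d : ℕ), m = a + 1 ∧ m = b + 1 - d :=
      ⟨_, (b - a).toNat, rfl, by omega⟩
    obtain ⟨E, φ, hE, hEz, hEQ, hC⟩ := key d (by omega)
    obtain ⟨m, hm'⟩ : ∃ m, m = b + 1 - (d : ℤ) := ⟨_, rfl⟩
    rw [← hm'] at hEz hC
    have hma : m - 1 = a := by omega
    let C := mappingCone φ
    have hCzero : ∀ i, i < m - 1 → IsZero (C.X i) := fun i hi =>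
      isZero_cone_X φ i (hEz _ (Or.inl (by omega))) (hFa i (by omega))
    have hπiso : ∀ {W : Scheme.{u}} (Q : CochainComplex W.Modules ℤ) (_ : ∀ i, i < m - 1 → IsZero (Q.X i)),
        IsIso (Q.homologyπ (m - 1)) := fun Q hQ =>
      Q.isIso_homologyπ (m - 2) (m - 1) (by simp; omega) ((hQ (m - 2) (by omega)).eq_of_src _ _)
    haveI := hπiso C hCzero
    have hG : FlatMod.IsFinLocFree (C.cycles (m - 1)) := isFinLocFree_of_local_res fun x => by
      obtain ⟨V, j, hj, v, P, hv, hP, hPa, ⟨e⟩⟩ := hmod x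
      obtain ⟨W, k, hk, w, R, hw, hR, hRm, hRh⟩ := exists_model_cone φ hE m (fun i hi => hEz i (Or.inl hi)) j v hP
        (fun i hi => hPa i (by omega)) e
      have hRex : ∀ i, m - 1 < i → R.ExactAt i := fun i hi => by
        obtain ⟨eh⟩ := hRh i
        exact (exactAt_iff_isZero_homology R i).2 (((PerfLib.res k).map_isZero ((PerfLib.res j).map_isZero
          ((exactAt_iff_isZero_homology C i).1 (hC i (by omega))))).of_iso eh)
      haveI := hπiso R hRm
      obtain ⟨eh⟩ := hRh (m - 1)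
      refine ⟨W, k ≫ j, inferInstance, w, by rw [Scheme.Hom.comp_apply, hw, hv], ?_⟩
      exact isFinLocFree_of_iso (asIso (R.homologyπ (m - 1)) ≪≫ eh ≪≫
        (PerfLib.res k).mapIso ((PerfLib.res j).mapIso (asIso (C.homologyπ (m - 1))).symm) ≪≫
        (Scheme.Modules.restrictFunctorComp k j).symm.app (C.cycles (m - 1))) (isFinLocFree_cycles hR (m - 1) hRex)
    haveI : Epi (𝟙 (C.cycles (m - 1)) ≫ C.homologyπ (m - 1)) := inferInstance
    obtain ⟨ψ, φ', h₁, h₂, -⟩ := exists_kill φ m hC (𝟙 (C.cycles (m - 1)))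
    obtain ⟨hE', hEm'⟩ := cone_source_props hG hE m ψ (fun i hi => hEz i (Or.inl hi))
    have hinr : ∀ i, i ≠ m - 1 → IsIso ((mappingCone.inr ψ).f i) := fun i hi =>
      isIso_inr_f ψ i (HomologicalComplex.isZero_single_obj_X _ _ _ _ (by omega))
    have hex : ∀ i, (mappingCone φ').ExactAt i := fun i => by
      rcases lt_trichotomy i (m - 2) with hi | hi | hi
      · exact ExactAt.of_isZero (isZero_cone_X φ' i (hEm' _ (by omega)) (hFa i (by omega)))
      · subst hi
        exact h₂ inferInstance (hEz _ (Or.inl (by omega))) (hFa _ (by omega))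
      · exact h₁ i (by omega)
    refine ⟨_, φ', (KFlatLib.acyclic_cone_iff φ').mp fun i => (exactAt_iff_isZero_homology _ i).1 (hex i),
      fun i hi => ?_, fun i hi => ?_, hE'.2 a⟩
    · by_cases h : i = m - 1
      · omega
      · haveI := hinr i h
        exact (hEz i (by omega)).of_iso (asIso ((mappingCone.inr ψ).f i)).symm
    · haveI := hinr i (by omega)
      exact hQi (asIso ((mappingCone.inr ψ).f i)) (hEQ i)
  intro d
  induction d with
  | zero =>
    intro _
    obtain ⟨E, φ, hE, hz, hC⟩ := exists_start F b hb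
    exact ⟨E, φ, hE, fun i _ => hz i, fun i => hQ0 (hz i), fun i hi => hC i (by omega)⟩
  | succ d ih =>
    intro hd
    obtain ⟨E, φ, hE, hEz, hEQ, hC⟩ := ih (by omega)
    obtain ⟨E', χ, φ', -, hE', hEm', hEQ', hC', hχ⟩ := exists_step Q hQ hQi hQe φ hlift (b + 1 - d) hE
      (fun i hi => hEz i (Or.inl hi)) hEQ hC
      (isFT_homology_top (isPerfect_cone φ hE hF) _ fun i hi => hC i (by omega))
    refine ⟨E', φ', hE', fun i hi => ?_, hEQ', fun i hi => hC' i (by omega)⟩
    rcases hi with hi | hi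
    · exact hEm' i (by omega)
    · haveI := hχ i (by omega)
      exact (hEz i (Or.inr hi)).of_iso (asIso (χ.f i)).symm

end ResPropLib
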