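import Groth.Agent.ResPropLib.Eff
import Groth.Agent.KoszOrthLib.Neg
import Groth.Agent.DerLib.Horseshoe
import Groth.Agent.DerLib.KInjUse
import Groth.Agent.PerfLib.LiftLocal

/-!
# The derived category of perfect complexes under the resolution property
-/

set_option autoImplicit false
set_option linter.style.haveILetI false
set_option backward.isDefEq.respectTransparency false
set_option backward.isDefEq.respectTransparency.types false

universe w v u

open CategoryTheory CategoryTheory.Limits AlgebraicGeometry Pretriangulated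
open HomologicalComplex CochainComplex CochainComplex.HomComplex
open CategoryTheory.Abelian (Ext)

attribute [local instance] HasDerivedCategory.standard

namespace ResPropLib

section Cocone

variable {C : Type u} [Category.{v} C] [Abelian C] [HasDerivedCategory.{w} C]

/-- The projection of a cocone followed by the map is null homotopic. -/
theorem nonempty_homotopy_fst_comp {K L : CochainComplex C ℤ} (φ : K ⟶ L) :
    Nonempty (Homotopy (mappingCocone.fst φ ≫ φ) 0) := by
  refine ⟨(Cochain.equivHomotopy _ _).symm ⟨-(mappingCocone.snd φ), ?_⟩⟩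
  have h : δ (-1) 0 (mappingCocone.snd φ) = -Cochain.ofHom (mappingCocone.fst φ ≫ φ) := by
    ext p
    simp [mappingCocone.snd, mappingCocone.fst, mappingCocone, Cochain.δ_leftShift _ (-1) _ _ _ 1 (by omega : (1 : ℤ) + -1 = 0),
      Cochain.leftShift_v _ _ _ _ _ _ _ _ rfl]
  simp [h]

theorem quasiIso_fst {K L : CochainComplex C ℤ} (φ : K ⟶ L) (hL : ∀ i, L.ExactAt i) :
    QuasiIso (mappingCocone.fst φ) := by
  rw [← DerivedCategory.isIso_Q_map_iff_quasiIso]
  let T := DerivedCategory.Q.mapTriangle.obj (mappingCocone.triangle φ)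
  have hT : T ∈ distinguishedTriangles := by
    rw [rotate_distinguished_triangle]
    exact isomorphic_distinguished _ ((DerivedCategory.mem_distTriang_iff _).2 ⟨_, _, φ, ⟨Iso.refl _⟩⟩) _
      ((DerivedCategory.Q.mapTriangleRotateIso.app (mappingCocone.triangle φ)) ≪≫
        DerivedCategory.Q.mapTriangle.mapIso (mappingCocone.rotateTriangleIso φ))
  have hz : IsZero T.obj₃ := Groth.Agent.DerLib.KInjUse.isZero_Q_obj hL
  exact (Triangle.isZero₃_iff_isIso₁ _ hT).1 hz

end Cocone

open Groth.Agent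

variable {X : Scheme.{u}} [CompactSpace X] [QuasiSeparatedSpace X] [HasExt.{u} X.Modules]

omit [CompactSpace X] [QuasiSeparatedSpace X] in
theorem eff_of_isZero {A : X.Modules} (h : IsZero A) : Eff A :=
  haveI : Injective A := h.injective
  eff_of_injective A

theorem eff_of_vb (hX : PerfAux.HasResolutionProperty X) {G : X.Modules} (hG : FlatMod.IsFinLocFree G) : Eff G :=
  haveI := FinLFAnn.isQCoh_of_isFinLocFree hG
  eff_of_isQCoh hX G

omit [CompactSpace X] [QuasiSeparatedSpace X] in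
theorem eff_cone_X {E F : CochainComplex X.Modules ℤ} (φ : E ⟶ F) (hE : ∀ i, Eff (E.X i))
    (hF : ∀ i, Eff (F.X i)) (i : ℤ) : Eff ((mappingCone φ).X i) :=
  eff_of_iso (HomologicalComplex.homotopyCofiber.XIsoBiprod φ i (i + 1) rfl).symm (eff_biprod (hE _) (hF _))

omit [CompactSpace X] [QuasiSeparatedSpace X] in
theorem isZero_cone_X {E F : CochainComplex X.Modules ℤ} (φ : E ⟶ F) (i : ℤ) (hE : IsZero (E.X (i + 1)))
    (hF : IsZero (F.X i)) : IsZero ((mappingCone φ).X i) :=
  IsZero.of_iso (by rw [biprod_isZero_iff]; exact ⟨hE, hF⟩) (HomologicalComplex.homotopyCofiber.XIsoBiprod φ i (i + 1) rfl)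

/-- Boundaries and cycles of a bounded below complex of effaceable modules. -/
theorem eff_kernel_homologyπ (hX : PerfAux.HasResolutionProperty X) (C : CochainComplex X.Modules ℤ) (a : ℤ)
    (ha : ∀ i, i < a → IsZero (C.X i)) (hC : ∀ i, Eff (C.X i)) (hH : ∀ i, Coh.IsQCoh (C.homology i)) (n : ℤ) :
    Eff (kernel (C.homologyπ n)) := by
  suffices key : ∀ (k : ℕ) (i : ℤ), i ≤ a + k → Eff (C.cycles (i - 1)) ∧ Eff (kernel (C.homologyπ i)) by
    exact (key (n - a).toNat n (by omega)).2
  have step : ∀ i : ℤ, Eff (C.cycles (i - 1)) → Eff (kernel (C.homologyπ i)) := by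
    intro i hi
    let e : C.X (i - 1) ⟶ kernel (C.homologyπ i) :=
      kernel.lift _ (C.toCycles (i - 1) i) (C.toCycles_comp_homologyπ _ _)
    haveI : Epi e := by
      rw [epi_iff_surjective_up_to_refinements]
      intro A b
      obtain ⟨A', π, hπ, x, hx⟩ := (C.comp_homologyπ_eq_zero_iff_up_to_refinements (i - 1) i (by simp)
        (b ≫ kernel.ι _)).mp (by rw [Category.assoc, kernel.condition, comp_zero])
      refine ⟨A', π, hπ, x, ?_⟩
      rw [← cancel_mono (kernel.ι (C.homologyπ i))]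
      simp [e, hx]
    let S := ShortComplex.mk (C.iCycles (i - 1)) e (by
      rw [← cancel_mono (kernel.ι (C.homologyπ i)), ← cancel_mono (C.iCycles i)]
      simp [e])
    haveI : Epi S.g := ‹Epi e›
    haveI : Mono S.f := inferInstanceAs (Mono (C.iCycles (i - 1)))
    have hS : S.ShortExact :=
      { exact := by
          rw [ShortComplex.exact_iff_exact_up_to_refinements]
          intro A (b : A ⟶ C.X (i - 1)) (hb : b ≫ e = 0)
          have hd : b ≫ C.d (i - 1) i = 0 := by
            have h := congrArg (fun z => z ≫ kernel.ι _ ≫ C.iCycles i) hb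
            simpa [e] using h
          exact ⟨A, 𝟙 A, inferInstance, C.liftCycles b i (by simp) hd, by simp [S]⟩ }
    exact eff_X₃ hS hi (hC (i - 1))
  intro k
  induction k with
  | zero =>
    intro i hi
    have h : Eff (C.cycles (i - 1)) := eff_of_isZero (IsZero.of_mono (C.iCycles _) (ha _ (by omega)))
    exact ⟨h, step i h⟩
  | succ k ih =>
    intro i hi
    have h : Eff (C.cycles (i - 1)) := by
      let S := ShortComplex.mk (kernel.ι (C.homologyπ (i - 1))) (C.homologyπ (i - 1)) (kernel.condition _)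
      haveI := hH (i - 1)
      exact eff_X₂ (S := S) { exact := ShortComplex.exact_of_f_is_kernel _ (kernelIsKernel _) }
        (ih (i - 1) (by omega)).2 (eff_of_isQCoh hX _)
    exact ⟨h, step i h⟩

theorem liftProp_of_eff' (hX : PerfAux.HasResolutionProperty X) (F : CochainComplex X.Modules ℤ) (a : ℤ)
    (ha : ∀ i, i < a → IsZero (F.X i)) (hF : ∀ i, Eff (F.X i))
    (hq : ∀ {E : CochainComplex X.Modules ℤ} (φ : E ⟶ F), DCoh.IsStrictlyPerfect E →
      DCoh.IsQCohD (DCoh.toD X (mappingCone φ))) : LiftProp F := by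
  intro E φ n hE hft
  obtain ⟨a', b', hab⟩ := hE.1
  let C := mappingCone φ
  have hH : ∀ i, Coh.IsQCoh (C.homology i) := fun i =>
    @QCohLib.isQCoh_of_iso _ _ _ ((DerivedCategory.homologyFunctorFactors X.Modules i).app C)
      (hq φ hE i)
  have hK : Eff (kernel (C.homologyπ n)) := eff_kernel_homologyπ hX C (min (a' - 1) a)
    (fun i hi => isZero_cone_X φ i (hab _ (Or.inl (by omega))) (ha i (by omega)))
    (eff_cone_X φ (fun i => eff_of_vb hX (hE.2 i)) hF) hH n
  haveI := hH n
  obtain ⟨G, γ, hG, hγ⟩ := exists_vb_lift hX (𝟙 (C.homology n)) hft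
  rw [Category.comp_id] at hγ
  let S := ShortComplex.mk (kernel.ι (C.homologyπ n)) (C.homologyπ n) (kernel.condition _)
  have hS : S.ShortExact := { exact := ShortComplex.exact_of_f_is_kernel _ (kernelIsKernel _) }
  obtain ⟨G', p, hG', hp, hc⟩ := hK 0 G hG ((Ext.mk₀ γ).comp hS.extClass (zero_add 1))
  rw [← Ext.comp_assoc (a₂₃ := 0 + 1) _ _ _ (zero_add 0) (zero_add 1) (by omega), Ext.mk₀_comp_mk₀] at hc
  obtain ⟨l₀, hl⟩ := Ext.covariant_sequence_exact₃ _ hS _ (zero_add 1) hc
  obtain ⟨l, rfl⟩ := (Ext.mk₀_bijective _ _).2 l₀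
  rw [Ext.mk₀_comp_mk₀] at hl
  refine ⟨G', l, hG', ?_⟩
  rw [show l ≫ C.homologyπ n = p ≫ γ from (Ext.mk₀_bijective _ _).1 hl]
  exact epi_comp _ _

theorem liftProp_of_eff (hX : PerfAux.HasResolutionProperty X) (F : CochainComplex X.Modules ℤ) (a : ℤ)
    (ha : ∀ i, i < a → IsZero (F.X i)) (hF : ∀ i, Eff (F.X i)) (hFp : DCoh.IsPerfect (DCoh.toD X F)) :
    LiftProp F :=
  liftProp_of_eff' hX F a ha hF fun φ hE => KoszOrthLib.isQCohD_of_isPerfect (isPerfect_cone φ hE hFp)

theorem exists_resolution_of_eff (hX : PerfAux.HasResolutionProperty X) (F : CochainComplex X.Modules ℤ)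
    (hFb : ∃ a : ℤ, ∀ n : ℤ, n < a → IsZero (F.X n)) (hFe : ∀ i, Eff (F.X i))
    (hF : DCoh.IsPerfect (DCoh.toD X F)) :
    ∃ (E : CochainComplex X.Modules ℤ) (φ : E ⟶ F), DCoh.IsStrictlyPerfect E ∧ QuasiIso φ :=
  exists_strictlyPerfect_quasiIso_of_lift F (liftProp_of_eff hX F hFb.choose hFb.choose_spec hFe hF) hFb hF

/-- Perfect objects are strictly perfect. -/
theorem exists_strictlyPerfect_iso (hX : PerfAux.HasResolutionProperty X) (K : DCoh.D X) (hK : DCoh.IsPerfect K) :
    ∃ E : CochainComplex X.Modules ℤ, DCoh.IsStrictlyPerfect E ∧ Nonempty (DCoh.toD X E ≅ K) := by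
  obtain ⟨a, b, -, hmod⟩ := exists_bounds hK
  haveI : K.IsGE a := (DerivedCategory.isGE_iff K a).2 fun i hi => PerfLib.isZero_of_cover fun x => by
    obtain ⟨V, j, hj, v, P, hv, hP, hPa, ⟨e⟩⟩ := hmod x
    have hz : IsZero ((PerfLib.res j).obj (DCoh.HD K i)) :=
      ((PerfLib.isZero_HD_of_exactAt (HomologicalComplex.ExactAt.of_isZero (hPa i hi))).of_iso
        ((DerivedCategory.homologyFunctor _ i).mapIso e)).of_iso (PerfLib.resHDIso j K i).symm
    exact PerfLib.exists_opens_of_local (M := DCoh.HD K i) (Q := fun {_} N => IsZero N)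
      (fun g _ _ hN => (PerfLib.res g).map_isZero hN) (fun e hN => hN.of_iso e.symm) j hv hz
  haveI : EnoughInjectives X.Modules := IsGrothendieckAbelian.enoughInjectives.{u}
  obtain ⟨F₀, hF₀, ⟨e₀⟩⟩ := DerivedCategory.exists_iso_Q_obj_of_isGE K a
  haveI := hF₀
  obtain ⟨I, i, hI, hinj, -, hi⟩ := DerLib.Horseshoe.exists_injective_resolution F₀ a
  haveI := hI
  haveI := hi
  let e : DCoh.toD X I ≅ K := (asIso (DerivedCategory.Q.map i)).symm ≪≫ e₀.symm
  obtain ⟨E, φ, hE, hφ⟩ := exists_resolution_of_eff hX I ⟨a, fun n hn => I.isZero_of_isStrictlyGE a n (by omega)⟩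
    (fun n => haveI := hinj n; eff_of_injective _) (PerfLib.isPerfect_of_iso e.symm hK)
  exact ⟨E, hE, ⟨asIso (DerivedCategory.Q.map φ) ≪≫ e⟩⟩

/-- A resolution of an acyclic target modification. -/
theorem exists_roof_of_null (hX : PerfAux.HasResolutionProperty X) {E Y : CochainComplex X.Modules ℤ}
    (hE : DCoh.IsStrictlyPerfect E) (u : E ⟶ Y) (hY : ∀ i, Y.ExactAt i) (a : ℤ)
    (hYb : ∀ i, i < a → IsZero (Y.X i)) (hYe : ∀ i, Eff (Y.X i)) :
    ∃ (G : CochainComplex X.Modules ℤ) (g : G ⟶ E), DCoh.IsStrictlyPerfect G ∧ QuasiIso g ∧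
      Nonempty (Homotopy (g ≫ u) 0) := by
  obtain ⟨c, d, hcd⟩ := hE.1
  haveI := quasiIso_fst u hY
  let eX : ∀ i, (mappingCocone u).X i ≅ (mappingCone u).X (i + -1) := fun i => Iso.refl _
  obtain ⟨G, q, hG, hq⟩ := exists_resolution_of_eff hX (mappingCocone u) ⟨min c (a + 1), fun n hn =>
      (isZero_cone_X u (n + -1) (hcd _ (Or.inl (by omega))) (hYb _ (by omega))).of_iso (eX n)⟩
    (fun i => eff_of_iso (eX i).symm (eff_cone_X u (fun i => eff_of_vb hX (hE.2 i)) hYe _))
    (PerfLib.isPerfect_of_iso (asIso (DerivedCategory.Q.map (mappingCocone.fst u))).symm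
      (isPerfect_toD_of_strictlyPerfect hE))
  haveI := hq
  obtain ⟨H⟩ := nonempty_homotopy_fst_comp u
  exact ⟨G, q ≫ mappingCocone.fst u, hG, inferInstance,
    ⟨((Homotopy.ofEq (Category.assoc _ _ _)).trans (H.compLeft q)).trans (Homotopy.ofEq comp_zero)⟩⟩

/-- An injective model of a strictly perfect complex, with cone. -/
theorem exists_injective_model (hX : PerfAux.HasResolutionProperty X) {F : CochainComplex X.Modules ℤ}
    (hF : DCoh.IsStrictlyPerfect F) :
    ∃ (I : CochainComplex X.Modules ℤ) (i : F ⟶ I) (a : ℤ), I.IsKInjective ∧ QuasiIso i ∧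
      (∀ k, k < a → IsZero ((mappingCone i).X k)) ∧ (∀ k, (mappingCone i).ExactAt k) ∧
      (∀ k, Eff ((mappingCone i).X k)) ∧ (∀ k, k < a → IsZero ((mappingCocone i).X k)) ∧
      (∀ k, Eff ((mappingCocone i).X k)) ∧ ∀ k, (mappingCocone i).ExactAt k := by
  obtain ⟨c, d, hcd⟩ := hF.1
  haveI : EnoughInjectives X.Modules := IsGrothendieckAbelian.enoughInjectives.{u}
  haveI : F.IsStrictlyGE c := by
    rw [CochainComplex.isStrictlyGE_iff]
    intro k hk
    exact hcd k (Or.inl hk)
  obtain ⟨I, i, hI, hinj, -, hi⟩ := DerLib.Horseshoe.exists_injective_resolution F c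
  haveI := hI
  haveI := hinj
  haveI := hi
  have hz : ∀ k, k < c - 1 → IsZero ((mappingCone i).X k) := fun k hk =>
    isZero_cone_X i k (hcd _ (Or.inl (by omega))) (I.isZero_of_isStrictlyGE c k (by omega))
  have he : ∀ k, Eff ((mappingCone i).X k) :=
    eff_cone_X i (fun k => eff_of_vb hX (hF.2 k)) (fun k => haveI := hinj k; eff_of_injective _)
  have hex : ∀ k, (mappingCone i).ExactAt k := fun k =>
    (exactAt_iff_isZero_homology _ k).2 ((KFlatLib.acyclic_cone_iff i).mpr hi k)
  exact ⟨I, i, c - 1, CochainComplex.isKInjective_of_injective I c, hi, hz, hex, he,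
    fun k hk => (hz (k + -1) (by omega)).of_iso (Iso.refl _), fun k => he (k + -1), fun k =>
      (exactAt_iff_isZero_homology _ k).2 (IsZero.of_iso
        ((exactAt_iff_isZero_homology _ (k + -1)).1 (hex (k + -1)))
        (((HomologicalComplex.homologyFunctor X.Modules (ComplexShape.up ℤ) 0).shiftIso (-1) k (k + -1)
          (by omega)).app (mappingCone i)))⟩

/-- Maps in the derived category are roofs of strictly perfect complexes. -/
theorem exists_roof (hX : PerfAux.HasResolutionProperty X) {E F : CochainComplex X.Modules ℤ}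
    (hE : DCoh.IsStrictlyPerfect E) (hF : DCoh.IsStrictlyPerfect F) (α : DCoh.toD X E ⟶ DCoh.toD X F) :
    ∃ (G : CochainComplex X.Modules ℤ) (g : G ⟶ E) (h : G ⟶ F), DCoh.IsStrictlyPerfect G ∧ QuasiIso g ∧
      DerivedCategory.Q.map g ≫ α = DerivedCategory.Q.map h := by
  obtain ⟨I, i, a, hI, hi, hz, hex, he, -, -, -⟩ := exists_injective_model hX hF
  haveI := hI
  haveI := hi
  obtain ⟨h₀, hh₀⟩ := DerLib.KInjUse.Q_map_surjective E I (α ≫ DerivedCategory.Q.map i)
  obtain ⟨G, g, hG, hg, ⟨H⟩⟩ := exists_roof_of_null hX hE (h₀ ≫ mappingCone.inr i) hex a hz he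
  obtain ⟨β, ⟨Hβ⟩⟩ := PerfLib.exists_lift_of_null (g ≫ h₀) i ((Homotopy.ofEq (Category.assoc _ _ _)).trans H)
  refine ⟨G, g, β, hG, hg, ?_⟩
  have h1 := PerfLib.Q_map_eq_of_homotopy Hβ
  rw [Functor.map_comp, Functor.map_comp, hh₀, ← Category.assoc, cancel_mono] at h1
  exact h1.symm

/-- Maps with equal images become homotopic on a strictly perfect model. -/
theorem exists_homotopy_after (hX : PerfAux.HasResolutionProperty X) {E F : CochainComplex X.Modules ℤ}
    (hE : DCoh.IsStrictlyPerfect E) (hF : DCoh.IsStrictlyPerfect F) (α β : E ⟶ F)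
    (hαβ : DerivedCategory.Q.map α = DerivedCategory.Q.map β) :
    ∃ (G : CochainComplex X.Modules ℤ) (γ : G ⟶ E), DCoh.IsStrictlyPerfect G ∧ QuasiIso γ ∧
      Nonempty (Homotopy (γ ≫ α) (γ ≫ β)) := by
  obtain ⟨I, i, a, hI, hi, -, -, -, hz, he, hex⟩ := exists_injective_model hX hF
  haveI := hI
  have h0 : DerivedCategory.Q.map ((α - β) ≫ i) = 0 := by
    rw [Functor.map_comp, Functor.map_sub, hαβ, sub_self, zero_comp]
  obtain ⟨z, hz'⟩ := Cochain.equivHomotopy _ _ (HomotopyCategory.homotopyOfEq ((α - β) ≫ i) 0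
    ((DerLib.KInjUse.quotient_eq_zero_of_Q h0).trans (Functor.map_zero _ _ _).symm))
  let h : E ⟶ mappingCocone i := mappingCocone.lift i (α - β) (-z) (by
    simp only [Cochain.ofHom_zero, add_zero] at hz'
    rw [δ_neg, hz', neg_add_cancel])
  obtain ⟨G, γ, hG, hγ, ⟨H⟩⟩ := exists_roof_of_null hX hE h hex a hz he
  refine ⟨G, γ, hG, hγ, ⟨?_⟩⟩
  have H1 : Homotopy (γ ≫ (α - β)) 0 :=
    ((Homotopy.ofEq (by rw [Category.assoc, mappingCocone.lift_fst])).trans
      (H.compRight (mappingCocone.fst i))).trans (Homotopy.ofEq zero_comp)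
  exact (Homotopy.equivSubZero).symm ((Homotopy.ofEq (by rw [Preadditive.comp_sub])).trans H1)

end ResPropLib
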