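import Groth.Agent.ResPropLib.Kill
import Groth.Agent.ResPropLib.VB
import Groth.Agent.PerfLib.Coherent
import Groth.Agent.RelFlatLib.Absolute
import Groth.Agent.QCohLib.FTCrit
import Groth.Agent.QCohLib.AffineFinite
import Groth.Agent.GrSysLib.Sheaf
import Groth.Agent.OmegaAffLib.StalkCrit
import Groth.Agent.DeligneLib.Basic
import Groth.Agent.KFlatLib.QCohLpull
import Groth.Agent.KFlatLib.Cone
import Groth.Agent.FinLFAnnLib.Main
import Groth.Prelude.Def_PerfAux

/-!
# Strictly perfect resolutions of bounded below quasi-coherent complexes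
-/

set_option autoImplicit false
set_option linter.style.haveILetI false

universe u

open CategoryTheory CategoryTheory.Limits AlgebraicGeometry Pretriangulated TopologicalSpace
open HomologicalComplex

attribute [local instance] HasDerivedCategory.standard

namespace ResPropLib

open Groth.Agent Groth.Agent.PerfLib

variable {X : Scheme.{u}}

/-- An epimorphism onto a module of finite type is dominated by a finite locally free module. -/
theorem exists_vb_lift [CompactSpace X] [QuasiSeparatedSpace X] (hX : PerfAux.HasResolutionProperty X)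
    {Z H : X.Modules} (p : Z ⟶ H) [Epi p] [Coh.IsQCoh Z] [Coh.IsQCoh H] (hH : CohB1.IsFT H) :
    ∃ (G : X.Modules) (l : G ⟶ Z), FlatMod.IsFinLocFree G ∧ Epi (l ≫ p) := by
  classical
  choose U hU hxU using fun x : X => QCohLib.exists_affine_nhd x
  obtain ⟨t, ht⟩ := isCompact_univ.elim_finite_subcover (fun x => (U x : Set X)) (fun x => (U x).2)
    fun x _ => Set.mem_iUnion.mpr ⟨x, hxU x⟩
  choose n g hg using fun k : {x // x ∈ t} =>
    haveI : Module.Finite Γ(X, U k.1) Γ(H, U k.1) := QCohLib.finite_of_isFT hH (hU k.1)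
    Module.Finite.exists_fin (R := Γ(X, U k.1)) (M := Γ(H, U k.1))
  choose s hs using fun (k : {x // x ∈ t}) (a : Fin (n k)) =>
    OmegaAffLib.surjective_app_of_epi (φ := p) (hU k.1) (g k a)
  obtain ⟨M, j, -, hMq, hMft, hM⟩ := QCohLib.exists_ft_through_finset (K := Z)
    (Finset.univ : Finset (Σ k : {x // x ∈ t}, ULift.{u} (Fin (n k)))) (fun a => U a.1.1)
    (fun a => hU a.1.1) (fun a => s a.1 a.2.down)
  obtain ⟨G, π, hG, hπ⟩ := hX M hMq hMft
  refine ⟨G, π ≫ j, hG, ?_⟩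
  haveI := hπ
  haveI : Epi (j ≫ p) := GrSysLib.epi_of_surjective_on_cover (j ≫ p) (fun k : {x // x ∈ t} => U k.1)
    (fun k => hU k.1) (fun x => by
      obtain ⟨y, hy, hxy⟩ := Set.mem_iUnion₂.mp (ht (Set.mem_univ x))
      exact ⟨⟨y, hy⟩, hxy⟩) fun k => by
    let L : Γ(M, U k.1) →ₗ[Γ(X, U k.1)] Γ(H, U k.1) :=
      { toFun := (j ≫ p).app (U k.1)
        map_add' := map_add _
        map_smul' := fun r a => QCohLib.app_smul (j ≫ p) (U k.1) r a }
    have hs' : LinearMap.range L = ⊤ → Function.Surjective L := LinearMap.range_eq_top.1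
    refine hs' (top_le_iff.mp <| (hg k).ge.trans <| Submodule.span_le.2 ?_)
    rintro _ ⟨a, rfl⟩
    obtain ⟨z, hz⟩ := hM ⟨k, ⟨a⟩⟩ (Finset.mem_univ _)
    refine ⟨z, ?_⟩
    show p.app _ (j.app _ z) = _
    rw [hz, hs]
  rw [Category.assoc]
  exact epi_comp _ _

theorem isPerfect_toD_of_strictlyPerfect {E : CochainComplex X.Modules ℤ} (hE : DCoh.IsStrictlyPerfect E) :
    DCoh.IsPerfect (DCoh.toD X E) :=
  (isPerfect_iff _).2 fun x =>
    ⟨X, 𝟙 X, inferInstance, x, rfl, (resC (𝟙 X)).obj E, isStrictlyPerfect_res _ hE, ⟨resDQIso (𝟙 X) E⟩⟩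

theorem isFT_of_iso {M N : X.Modules} (e : M ≅ N) (h : CohB1.IsFT M) : CohB1.IsFT N :=
  QCohLib.isFT_of_epi e.hom h

theorem isFT_homology_top {C : CochainComplex X.Modules ℤ} (hC : DCoh.IsPerfect (DCoh.toD X C)) (n : ℤ)
    (h : ∀ i, n < i → C.ExactAt i) : CohB1.IsFT (C.homology n) := by
  refine isFT_of_iso ((DerivedCategory.homologyFunctorFactors X.Modules n).app C)
    (isFT_of_local fun x => ?_)
  obtain ⟨W, j, hj, v, N, q, hv, hN, hq, -⟩ := exists_model_top (show n - 1 ≤ n by omega)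
    (Groth.Agent.RelFlatLib.isPC_of_isPerfect hC _) (fun i hi => isZero_HD_of_exactAt (h i hi)) x
  exact ⟨W, j, hj, v, hv, N, q, hq, hN⟩

/-- Cycles of a strictly perfect complex exact above a degree. -/
theorem isFinLocFree_cycles {P : CochainComplex X.Modules ℤ} (hP : DCoh.IsStrictlyPerfect P) (n : ℤ)
    (h : ∀ i, n < i → P.ExactAt i) : FlatMod.IsFinLocFree (P.cycles n) := by
  obtain ⟨⟨a, b, hv⟩, hf⟩ := hP
  suffices key : ∀ (k : ℕ) (i : ℤ), n ≤ i → b < i + k → FlatMod.IsFinLocFree (P.cycles i) by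
    exact key ((b - n).toNat + 1) n le_rfl (by omega)
  intro k
  induction k with
  | zero =>
    intro i _ hi
    refine KFlatLib.isFinLocFree_of_isFinFree (KFlatLib.isFinFree_of_isZero ?_)
    exact IsZero.of_mono (P.iCycles i) (hv i (Or.inr (by omega)))
  | succ k ih =>
    intro i hi hb
    haveI : Epi (P.toCycles i (i + 1)) := by
      refine Preadditive.epi_of_cancel_zero _ fun {T} t ht => ?_
      have hz : IsZero (P.homology (i + 1)) := (exactAt_iff_isZero_homology P _).1 (h _ (by omega))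
      have hc := P.homologyIsCokernel i (i + 1) (by simp)
      obtain ⟨l, hl⟩ := CokernelCofork.IsColimit.desc' hc t ht
      rw [← hl]
      simp [hz.eq_of_src l 0]
    have hker : FlatMod.IsFinLocFree (kernel (P.toCycles i (i + 1))) :=
      isFinLocFree_kernel _ (hf i) (ih (i + 1) (by omega) (by omega))
    exact isFinLocFree_of_iso ((kernelCompMono (P.toCycles i (i + 1)) (P.iCycles (i + 1))).symm ≪≫
      kernelIsoOfEq (P.toCycles_i i (i + 1)) ≪≫
      (kernelIsKernel (P.d i (i + 1))).conePointUniqueUpToIso (P.cyclesIsKernel i (i + 1) (by simp))) hker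

theorem isFinLocFree_of_local_res {M : X.Modules}
    (h : ∀ x : X, ∃ (W : Scheme.{u}) (j : W ⟶ X) (_ : IsOpenImmersion j) (v : W),
      j v = x ∧ FlatMod.IsFinLocFree ((PerfLib.res j).obj M)) : FlatMod.IsFinLocFree M := fun x => by
  obtain ⟨W, j, hj, v, hv, hM⟩ := h x
  obtain ⟨U, m, hvU, ⟨eU⟩⟩ := hM v
  obtain ⟨O, hxO, m', ⟨eO⟩⟩ := exists_opens_of_local (M := M) (Q := fun {_} N => KFlatLib.IsFinFree N)
    (fun g _ _ hN => isFinFree_res g hN) (fun i hN => KFlatLib.isFinFree_of_iso i hN) (U.ι ≫ j)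
    (v := ⟨v, hvU⟩) (x := x) (show j v = x from hv)
    (KFlatLib.isFinFree_of_iso ((Scheme.Modules.restrictFunctorComp U.ι j).symm.app M) ⟨m, ⟨eU⟩⟩)
  exact ⟨O, m', hxO, ⟨eO⟩⟩

/-- A cone of a map of strictly perfect complexes modelling a cone, near a point. -/
theorem exists_model_cone {E F : CochainComplex X.Modules ℤ} (φ : E ⟶ F) (hE : DCoh.IsStrictlyPerfect E)
    (m : ℤ) (hEm : ∀ i, i < m → IsZero (E.X i)) {V : Scheme.{u}} (j : V ⟶ X) [IsOpenImmersion j] (v : V)
    {P : CochainComplex V.Modules ℤ} (hP : DCoh.IsStrictlyPerfect P) (hPm : ∀ i, i < m - 1 → IsZero (P.X i))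
    (e : (resD j).obj (DCoh.toD X F) ≅ DCoh.toD V P) :
    ∃ (W : Scheme.{u}) (k : W ⟶ V) (_ : IsOpenImmersion k) (w : W) (Q : CochainComplex W.Modules ℤ),
      k w = v ∧ DCoh.IsStrictlyPerfect Q ∧ (∀ i, i < m - 1 → IsZero (Q.X i)) ∧
      ∀ i, Nonempty (Q.homology i ≅
        (PerfLib.res k).obj ((PerfLib.res j).obj ((CochainComplex.mappingCone φ).homology i))) := by
  obtain ⟨W, k, hk, w, β, hw, hβ⟩ := exists_chain_local (isStrictlyPerfect_res j hE)
    ((resDQIso j E).inv ≫ (resD j).map (DerivedCategory.Q.map φ) ≫ e.hom) v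
  let T := DerivedCategory.Q.mapTriangle.obj (CochainComplex.mappingCone.triangle φ)
  have hT : T ∈ distinguishedTriangles :=
    (DerivedCategory.mem_distTriang_iff _).2 ⟨_, _, φ, ⟨Iso.refl _⟩⟩
  let e₃ : (resD k).obj ((resD j).obj (DCoh.toD X (CochainComplex.mappingCone φ))) ≅
      DCoh.toD W (CochainComplex.mappingCone β) := Triangle.π₃.mapIso (isoTriangleOfIso₁₂
    ((resD k).mapTriangle.obj ((resD j).mapTriangle.obj T))
    (DerivedCategory.Q.mapTriangle.obj (CochainComplex.mappingCone.triangle β))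
    ((resD k).map_distinguished _ ((resD j).map_distinguished _ hT))
    ((DerivedCategory.mem_distTriang_iff _).2 ⟨_, _, β, ⟨Iso.refl _⟩⟩)
    ((resD k).mapIso (resDQIso j E) ≪≫ resDQIso k _) ((resD k).mapIso e ≪≫ resDQIso k P) (by
      change (resD k).map ((resD j).map (DerivedCategory.Q.map φ)) ≫ (resD k).map e.hom ≫ (resDQIso k P).hom =
        ((resD k).map (resDQIso j E).hom ≫ (resDQIso k _).hom) ≫ DerivedCategory.Q.map β
      rw [Category.assoc, ← hβ, ← Functor.map_comp_assoc, ← Functor.map_comp_assoc,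
        Iso.hom_inv_id_assoc]))
  refine ⟨W, k, hk, w, CochainComplex.mappingCone β, hw,
    isStrictlyPerfect_cone β (isStrictlyPerfect_res k (isStrictlyPerfect_res j hE)) (isStrictlyPerfect_res k hP),
    fun i hi => ?_, fun i => ⟨((DerivedCategory.homologyFunctorFactors _ i).app _).symm ≪≫
      (DerivedCategory.homologyFunctor _ i).mapIso e₃.symm ≪≫ resHDIso k _ i ≪≫
      (PerfLib.res k).mapIso (resHDIso j _ i ≪≫
        (PerfLib.res j).mapIso ((DerivedCategory.homologyFunctorFactors _ i).app _))⟩⟩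
  refine IsZero.of_iso ?_ (HomologicalComplex.homotopyCofiber.XIsoBiprod β i (i + 1) rfl)
  rw [biprod_isZero_iff]
  exact ⟨(PerfLib.res k).map_isZero ((PerfLib.res j).map_isZero (hEm _ (by omega))),
    (PerfLib.res k).map_isZero (hPm i hi)⟩

theorem isPerfect_cone {E F : CochainComplex X.Modules ℤ} (φ : E ⟶ F) (hE : DCoh.IsStrictlyPerfect E)
    (hF : DCoh.IsPerfect (DCoh.toD X F)) :
    DCoh.IsPerfect (DCoh.toD X (CochainComplex.mappingCone φ)) :=
  isPerfect_obj₃ _ ((DerivedCategory.mem_distTriang_iff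
    (DerivedCategory.Q.mapTriangle.obj (CochainComplex.mappingCone.triangle φ))).2 ⟨_, _, φ, ⟨Iso.refl _⟩⟩)
    (isPerfect_toD_of_strictlyPerfect hE) hF

/-- Uniform bounds for local models of a perfect object on a quasi-compact scheme. -/
theorem exists_bounds [CompactSpace X] {K : DCoh.D X} (hK : DCoh.IsPerfect K) :
    ∃ a b : ℤ, (∀ i, b < i → IsZero (DCoh.HD K i)) ∧
      ∀ x : X, ∃ (V : Scheme.{u}) (j : V ⟶ X) (_ : IsOpenImmersion j) (v : V)
        (P : CochainComplex V.Modules ℤ), j v = x ∧ DCoh.IsStrictlyPerfect P ∧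
        (∀ i, i < a → IsZero (P.X i)) ∧ Nonempty ((resD j).obj K ≅ DCoh.toD V P) := by
  have hloc : ∀ x : X, ∃ (V : Scheme.{u}) (j : V ⟶ X) (_ : IsOpenImmersion j) (v : V)
      (P : CochainComplex V.Modules ℤ) (a b : ℤ), j v = x ∧ DCoh.IsStrictlyPerfect P ∧
      (∀ i, i < a ∨ b < i → IsZero (P.X i)) ∧ Nonempty ((resD j).obj K ≅ DCoh.toD V P) := fun x => by
    obtain ⟨V, j, hj, v, hv, P, hP, hiso⟩ := (isPerfect_iff K).1 hK x
    obtain ⟨a, b, hab⟩ := hP.1
    exact ⟨V, j, hj, v, P, a, b, hv, hP, hab, hiso⟩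
  choose V j hj v P a b hv hP hab hiso using hloc
  obtain ⟨t, ht⟩ := isCompact_univ.elim_finite_subcover (fun x : X => ((j x).opensRange : Set X))
    (fun x => (j x).opensRange.2) fun x _ => Set.mem_iUnion.2 ⟨x, v x, hv x⟩
  obtain ⟨a₀, ha₀⟩ : ∃ a₀, ∀ p ∈ t, a₀ ≤ a p := (t.finite_toSet.image a).bddBelow.imp
    fun a₀ h p hp => h ⟨p, hp, rfl⟩
  obtain ⟨b₀, hb₀⟩ : ∃ b₀, ∀ p ∈ t, b p ≤ b₀ := (t.finite_toSet.image b).bddAbove.imp
    fun b₀ h p hp => h ⟨p, hp, rfl⟩
  refine ⟨a₀, b₀, fun i hi => KFlatLib.isZero_of_stalks fun x => ?_, fun x => ?_⟩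
  · obtain ⟨p, hpt, y, hy⟩ := Set.mem_iUnion₂.1 (ht (Set.mem_univ x))
    haveI := hj p
    obtain ⟨e⟩ := hiso p
    have hz : IsZero ((PerfLib.res (j p)).obj (DCoh.HD K i)) :=
      (((isZero_HD_of_exactAt (ExactAt.of_isZero (hab p i (Or.inr (by have := hb₀ p hpt; omega))))).of_iso
        ((DerivedCategory.homologyFunctor _ i).mapIso e))).of_iso (resHDIso (j p) K i).symm
    have hz' : IsZero (((Scheme.Modules.toPresheaf _) ⋙
        TopCat.Presheaf.stalkFunctor AddCommGrpCat.{u} y).obj ((PerfLib.res (j p)).obj (DCoh.HD K i))) :=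
      Functor.map_isZero _ hz
    rw [← hy]
    have : Subsingleton ((DCoh.HD K i).presheaf.stalk ((j p) y)) :=
      AddCommGrpCat.subsingleton_of_isZero (hz'.of_iso
        ((Scheme.Modules.restrictStalkNatIso (j p) y).app (DCoh.HD K i)).symm)
    exact this
  · obtain ⟨p, hpt, y, hy⟩ := Set.mem_iUnion₂.1 (ht (Set.mem_univ x))
    exact ⟨V p, j p, hj p, y, P p, hy, hP p,
      fun i hi => hab p i (Or.inl (by have := ha₀ p hpt; omega)), hiso p⟩

theorem isQCoh_cone_X {E F : CochainComplex X.Modules ℤ} (φ : E ⟶ F) (hE : DCoh.IsStrictlyPerfect E)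
    (hF : ∀ n, Coh.IsQCoh (F.X n)) (i : ℤ) : Coh.IsQCoh ((CochainComplex.mappingCone φ).X i) := by
  haveI := FinLFAnn.isQCoh_of_isFinLocFree (hE.2 (i + 1))
  haveI := hF i
  haveI := QCohLib.isQCoh_biprod (E.X (i + 1)) (F.X i)
  exact QCohLib.isQCoh_of_iso (M := E.X (i + 1) ⊞ F.X i) (HomologicalComplex.homotopyCofiber.XIsoBiprod φ i (i + 1) rfl).symm

theorem cone_source_props {G : X.Modules} (hG : FlatMod.IsFinLocFree G) {E : CochainComplex X.Modules ℤ}
    (hE : DCoh.IsStrictlyPerfect E) (m : ℤ) (ψ : (CochainComplex.singleFunctor X.Modules m).obj G ⟶ E)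
    (hEm : ∀ i, i < m → IsZero (E.X i)) :
    DCoh.IsStrictlyPerfect (CochainComplex.mappingCone ψ) ∧
      ∀ i, i < m - 1 → IsZero ((CochainComplex.mappingCone ψ).X i) := by
  have hS : DCoh.IsStrictlyPerfect ((CochainComplex.singleFunctor X.Modules m).obj G) := by
    refine ⟨⟨m, m, fun i hi => HomologicalComplex.isZero_single_obj_X (ComplexShape.up ℤ) m G i (by omega)⟩,
      fun i => ?_⟩
    by_cases hi : i = m
    · subst hi
      exact isFinLocFree_of_iso (HomologicalComplex.singleObjXSelf (ComplexShape.up ℤ) i G).symm hG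
    · exact KFlatLib.isFinLocFree_of_isFinFree (KFlatLib.isFinFree_of_isZero
        (HomologicalComplex.isZero_single_obj_X (ComplexShape.up ℤ) m G i hi))
  refine ⟨isStrictlyPerfect_cone ψ hS hE, fun i hi => ?_⟩
  refine IsZero.of_iso ?_ (HomologicalComplex.homotopyCofiber.XIsoBiprod ψ i (i + 1) rfl)
  rw [biprod_isZero_iff]
  exact ⟨HomologicalComplex.isZero_single_obj_X (ComplexShape.up ℤ) m G (i + 1) (by omega), hEm i (by omega)⟩

variable [CompactSpace X] [QuasiSeparatedSpace X]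

/-- Cohomology of the cone in the next degree lifts to cycles along finite locally free modules. -/
def LiftProp (F : CochainComplex X.Modules ℤ) : Prop :=
  ∀ (E : CochainComplex X.Modules ℤ) (φ : E ⟶ F) (n : ℤ), DCoh.IsStrictlyPerfect E →
    CohB1.IsFT ((CochainComplex.mappingCone φ).homology n) →
    ∃ (G : X.Modules) (l : G ⟶ (CochainComplex.mappingCone φ).cycles n), FlatMod.IsFinLocFree G ∧
      Epi (l ≫ (CochainComplex.mappingCone φ).homologyπ n)

theorem liftProp_of_isQCoh (hX : PerfAux.HasResolutionProperty X) (F : CochainComplex X.Modules ℤ)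
    (hFq : ∀ n : ℤ, Coh.IsQCoh (F.X n)) : LiftProp F := by
  intro E φ n hE hft
  have hCq := isQCoh_cone_X φ hE hFq
  haveI : Coh.IsQCoh ((CochainComplex.mappingCone φ).cycles n) := DeligneLib.isQCoh_cycles _ hCq _
  haveI : Coh.IsQCoh ((CochainComplex.mappingCone φ).homology n) := KFlatLib.isQCoh_homology_of_terms _ hCq _
  exact exists_vb_lift hX _ hft

/-- Approximations from strictly perfect complexes in degrees at least `m`. -/
theorem exists_approx (F : CochainComplex X.Modules ℤ)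
    (hlift : LiftProp F) (hF : DCoh.IsPerfect (DCoh.toD X F)) (b : ℤ)
    (hb : ∀ i, b < i → F.ExactAt i) (d : ℕ) :
    ∃ (E : CochainComplex X.Modules ℤ) (φ : E ⟶ F), DCoh.IsStrictlyPerfect E ∧
      (∀ i, i < b + 1 - d → IsZero (E.X i)) ∧
      ∀ i, b + 1 - d ≤ i → (CochainComplex.mappingCone φ).ExactAt i := by
  induction d with
  | zero =>
    let E : CochainComplex X.Modules ℤ := (CochainComplex.singleFunctor X.Modules b).obj (kernel (𝟙 (Coh.structureModule X)))
    have hz : IsZero (kernel (𝟙 (Coh.structureModule X))) := by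
      rw [IsZero.iff_id_eq_zero, ← cancel_mono (kernel.ι (𝟙 (Coh.structureModule X))), zero_comp, Category.id_comp]
      exact (Category.comp_id _).symm.trans (kernel.condition _)
    have hE : ∀ i, IsZero (E.X i) := fun i => by
      by_cases hi : i = b
      · subst hi
        exact hz.of_iso (HomologicalComplex.singleObjXSelf (ComplexShape.up ℤ) i _)
      · exact HomologicalComplex.isZero_single_obj_X (ComplexShape.up ℤ) b _ i hi
    refine ⟨E, 0, ⟨⟨b, b, fun i _ => hE i⟩, fun i =>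
      KFlatLib.isFinLocFree_of_isFinFree (KFlatLib.isFinFree_of_isZero (hE i))⟩, fun i _ => hE i, fun i hi => ?_⟩
    haveI := isIso_inr_f (0 : E ⟶ F) (i - 1) (hE _)
    haveI := isIso_inr_f (0 : E ⟶ F) i (hE _)
    haveI := isIso_inr_f (0 : E ⟶ F) (i + 1) (hE _)
    exact exactAt_of_isIso (CochainComplex.mappingCone.inr (0 : E ⟶ F)) i (hb i (by omega))
  | succ d ih =>
    obtain ⟨E, φ, hE, hEm, hC⟩ := ih
    obtain ⟨m, hm⟩ : ∃ m, m = b + 1 - (d : ℤ) := ⟨_, rfl⟩
    rw [← hm] at hEm hC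
    let C := CochainComplex.mappingCone φ
    obtain ⟨G, l, hG, hl⟩ := hlift E φ (m - 1) hE
      (isFT_homology_top (isPerfect_cone φ hE hF) (m - 1) fun i hi => hC i (by omega))
    obtain ⟨ψ, φ', h', -⟩ := exists_kill φ m hC l
    obtain ⟨hE', hEm'⟩ := cone_source_props hG hE m ψ hEm
    exact ⟨_, φ', hE', fun i hi => hEm' i (by omega), fun i hi => h' i (by omega)⟩

/-- A strictly perfect resolution. -/
theorem exists_strictlyPerfect_quasiIso_of_lift (F : CochainComplex X.Modules ℤ) (hlift : LiftProp F)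
    (hFb : ∃ a : ℤ, ∀ n : ℤ, n < a → IsZero (F.X n))
    (hF : DCoh.IsPerfect (DCoh.toD X F)) :
    ∃ (E : CochainComplex X.Modules ℤ) (φ : E ⟶ F), DCoh.IsStrictlyPerfect E ∧ QuasiIso φ := by
  obtain ⟨a₁, ha₁⟩ := hFb
  obtain ⟨a, b, hb, hmod⟩ := exists_bounds hF
  have hb' : ∀ i, b < i → F.ExactAt i := fun i hi => exactAt_of_isZero_HD (hb i hi)
  obtain ⟨m, d, hm, hma, hma₁⟩ : ∃ (m : ℤ) (d : ℕ), b + 1 - d = m ∧ m ≤ a ∧ m + 1 ≤ a₁ := by
    refine ⟨_, (b + 1 - min a (a₁ - 1)).toNat, rfl, ?_, ?_⟩ <;> omega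
  obtain ⟨E, φ, hE, hEm, hC⟩ := exists_approx F hlift hF b hb' d
  rw [hm] at hEm hC
  let C := CochainComplex.mappingCone φ
  have hCzero : ∀ i, i < m - 1 → IsZero (C.X i) := fun i hi => by
    refine IsZero.of_iso ?_ (HomologicalComplex.homotopyCofiber.XIsoBiprod φ i (i + 1) rfl)
    rw [biprod_isZero_iff]
    exact ⟨hEm _ (by omega), ha₁ i (by omega)⟩
  have hπiso : ∀ {W : Scheme.{u}} (Q : CochainComplex W.Modules ℤ) (_ : ∀ i, i < m - 1 → IsZero (Q.X i)),
      IsIso (Q.homologyπ (m - 1)) := fun Q hQ =>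
    Q.isIso_homologyπ (m - 2) (m - 1) (by simp; omega) ((hQ (m - 2) (by omega)).eq_of_src _ _)
  haveI := hπiso C hCzero
  have hG : FlatMod.IsFinLocFree (C.cycles (m - 1)) := isFinLocFree_of_local_res fun x => by
    obtain ⟨V, j, hj, v, P, hv, hP, hPa, ⟨e⟩⟩ := hmod x
    obtain ⟨W, k, hk, w, Q, hw, hQ, hQm, hQh⟩ := exists_model_cone φ hE m hEm j v hP
      (fun i hi => hPa i (by omega)) e
    have hQex : ∀ i, m - 1 < i → Q.ExactAt i := fun i hi => by
      obtain ⟨eh⟩ := hQh i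
      exact (exactAt_iff_isZero_homology Q i).2 (((PerfLib.res k).map_isZero ((PerfLib.res j).map_isZero
        ((exactAt_iff_isZero_homology C i).1 (hC i (by omega))))).of_iso eh)
    haveI := hπiso Q hQm
    obtain ⟨eh⟩ := hQh (m - 1)
    refine ⟨W, k ≫ j, inferInstance, w, by rw [Scheme.Hom.comp_apply, hw, hv], ?_⟩
    exact isFinLocFree_of_iso (asIso (Q.homologyπ (m - 1)) ≪≫ eh ≪≫
      (PerfLib.res k).mapIso ((PerfLib.res j).mapIso (asIso (C.homologyπ (m - 1))).symm) ≪≫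
      (Scheme.Modules.restrictFunctorComp k j).symm.app (C.cycles (m - 1))) (isFinLocFree_cycles hQ (m - 1) hQex)
  haveI : Epi (𝟙 (C.cycles (m - 1)) ≫ C.homologyπ (m - 1)) := inferInstance
  obtain ⟨ψ, φ', h₁, h₂, -⟩ := exists_kill φ m hC (𝟙 (C.cycles (m - 1)))
  obtain ⟨hE', hEm'⟩ := cone_source_props hG hE m ψ hEm
  have hex : ∀ i, (CochainComplex.mappingCone φ').ExactAt i := fun i => by
    rcases lt_trichotomy i (m - 2) with hi | hi | hi
    · refine ExactAt.of_isZero (IsZero.of_iso ?_ (HomologicalComplex.homotopyCofiber.XIsoBiprod φ' i (i + 1) rfl))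
      rw [biprod_isZero_iff]
      exact ⟨hEm' _ (by omega), ha₁ i (by omega)⟩
    · subst hi
      exact h₂ inferInstance (hEm _ (by omega)) (ha₁ _ (by omega))
    · exact h₁ i (by omega)
  exact ⟨_, φ', hE', (KFlatLib.acyclic_cone_iff φ').mp fun i => (exactAt_iff_isZero_homology _ i).1 (hex i)⟩

/-- A strictly perfect resolution of a quasi-coherent complex. -/
theorem exists_strictlyPerfect_quasiIso (hX : PerfAux.HasResolutionProperty X) (F : CochainComplex X.Modules ℤ)
    (hFb : ∃ a : ℤ, ∀ n : ℤ, n < a → IsZero (F.X n)) (hFq : ∀ n : ℤ, Coh.IsQCoh (F.X n))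
    (hF : DCoh.IsPerfect (DCoh.toD X F)) :
    ∃ (E : CochainComplex X.Modules ℤ) (φ : E ⟶ F), DCoh.IsStrictlyPerfect E ∧ QuasiIso φ :=
  exists_strictlyPerfect_quasiIso_of_lift F (liftProp_of_isQCoh hX F hFq) hFb hF

end ResPropLib
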