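import Groth.Agent.ResPropLib.Ample

/-!
# Global resolutions by negative powers of an ample family
-/

set_option autoImplicit false
set_option linter.style.haveILetI false
set_option backward.isDefEq.respectTransparency false
set_option backward.isDefEq.respectTransparency.types false

universe u

open CategoryTheory CategoryTheory.Limits AlgebraicGeometry Pretriangulated
open HomologicalComplex CochainComplex
open CategoryTheory.Abelian (Ext)
open scoped ZeroObject

attribute [local instance] HasDerivedCategory.standard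

namespace ResPropLib

open Groth.Agent Groth.Agent.PerfLib

variable {X : Scheme.{u}} [CompactSpace X] [QuasiSeparatedSpace X] [HasExt.{u} X.Modules]

omit [CompactSpace X] [QuasiSeparatedSpace X] [HasExt.{u} X.Modules] in
/-- An injective model of a cohomologically bounded below object. -/
theorem exists_injective_rep (K : DCoh.D X) (a : ℤ) [K.IsGE a] :
    ∃ (I : CochainComplex X.Modules ℤ), (∀ n, n < a → IsZero (I.X n)) ∧ (∀ n, Injective (I.X n)) ∧
      Nonempty (DCoh.toD X I ≅ K) := by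
  haveI : EnoughInjectives X.Modules := IsGrothendieckAbelian.enoughInjectives.{u}
  obtain ⟨F₀, hF₀, ⟨e₀⟩⟩ := DerivedCategory.exists_iso_Q_obj_of_isGE K a
  haveI := hF₀
  obtain ⟨I, i, hI, hinj, -, hi⟩ := DerLib.Horseshoe.exists_injective_resolution F₀ a
  haveI := hI
  haveI := hi
  exact ⟨I, fun n hn => I.isZero_of_isStrictlyGE a n (by omega), hinj,
    ⟨(asIso (DerivedCategory.Q.map i)).symm ≪≫ e₀.symm⟩⟩

/-- A perfect object of amplitude in `[m, n]` has a resolution by negative powers. -/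
theorem exists_amplitude_iso {ι : Type u} (L : ι → X.Modules) (hL : KSix.IsAmpleFamily L) (K : DCoh.D X) (m n : ℤ)
    (hK : KSix.HasPerfectAmplitudeIn m n K) :
    ∃ F : CochainComplex X.Modules ℤ, DCoh.VanishesOutside F m n ∧ (∀ i : ℤ, m < i → KSix.InAddL L (F.X i)) ∧
      FlatMod.IsFinLocFree (F.X m) ∧ Nonempty (DCoh.toD X F ≅ K) := by
  have hX := hasResolutionProperty_of_isAmpleFamily L hL
  have hmod : ∀ (F : CochainComplex X.Modules ℤ), (DCoh.toD X F ≅ K) → ∀ x : X, ∃ (V : Scheme.{u}) (j : V ⟶ X) (_ : IsOpenImmersion j) (v : V)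
      (P : CochainComplex V.Modules ℤ), j v = x ∧ DCoh.IsStrictlyPerfect P ∧
      (∀ i, (i < m ∨ n < i) → IsZero (P.X i)) ∧ Nonempty ((resD j).obj K ≅ DCoh.toD V P) := fun F e x => by
    obtain ⟨V, hx, hV⟩ := hK x
    obtain ⟨P, hP, hPf, ⟨eP⟩⟩ := hV F ⟨e⟩
    exact ⟨V, V.ι, inferInstance, ⟨x, hx⟩, P, rfl, ⟨⟨m, n, hP⟩, hPf⟩, hP,
      ⟨(resD V.ι).mapIso e.symm ≪≫ resDQIso V.ι F ≪≫ eP⟩⟩
  let F₀ := DerivedCategory.Q.objPreimage K
  let e₀ : DCoh.toD X F₀ ≅ K := DerivedCategory.Q.objObjPreimageIso K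
  have hout : ∀ i, (i < m ∨ n < i) → IsZero (DCoh.HD K i) := fun i hi => PerfLib.isZero_of_cover fun x => by
    obtain ⟨V, j, hj, v, P, hv, hP, hPa, ⟨e⟩⟩ := hmod F₀ e₀ x
    have hz : IsZero ((PerfLib.res j).obj (DCoh.HD K i)) :=
      ((PerfLib.isZero_HD_of_exactAt (HomologicalComplex.ExactAt.of_isZero (hPa i hi))).of_iso
        ((DerivedCategory.homologyFunctor _ i).mapIso e)).of_iso (PerfLib.resHDIso j K i).symm
    exact PerfLib.exists_opens_of_local (M := DCoh.HD K i) (Q := fun {_} N => IsZero N)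
      (fun g _ _ hN => (PerfLib.res g).map_isZero hN) (fun e hN => hN.of_iso e.symm) j hv hz
  haveI : K.IsGE m := (DerivedCategory.isGE_iff K m).2 fun i hi => hout i (Or.inl hi)
  by_cases hmn : m ≤ n
  · obtain ⟨I, hIm, hinj, ⟨e⟩⟩ := exists_injective_rep K m
    have hIp : DCoh.IsPerfect (DCoh.toD X I) := PerfLib.isPerfect_of_iso e.symm ((isPerfect_iff _).2 fun x => by
      obtain ⟨V, j, hj, v, P, hv, hP, -, hiso⟩ := hmod F₀ e₀ x
      exact ⟨V, j, hj, v, hv, P, hP, hiso⟩)
    obtain ⟨E, φ, hφ, hE, hEQ, hEm⟩ := exists_amplitude_resolution (KSix.InAddL L)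
      (fun _ h => isFinLocFree_of_inAddL h) (fun _ _ e h => inAddL_of_iso e h) (fun _ h => inAddL_of_isZero h)
      (exists_inAddL_epi L hL) I
      (liftProp_of_eff hX I m hIm (fun i => haveI := hinj i; eff_of_injective _) hIp) hIp m n hmn hIm
      (fun i hi => exactAt_of_isZero_HD ((hout i (Or.inr hi)).of_iso ((DerivedCategory.homologyFunctor _ i).mapIso e)))
      (fun x => by
        obtain ⟨V, j, hj, v, P, hv, hP, hPm, ⟨eP⟩⟩ := hmod F₀ e₀ x
        exact ⟨V, j, hj, v, P, hv, hP, fun i hi => hPm i (Or.inl hi), ⟨(resD j).mapIso e ≪≫ eP⟩⟩)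
    exact ⟨E, hE, hEQ, hEm, ⟨asIso (DerivedCategory.Q.map φ) ≪≫ e⟩⟩
  · have hz : ∀ i, IsZero ((0 : CochainComplex X.Modules ℤ).X i) := fun i =>
      Functor.map_isZero (HomologicalComplex.eval _ _ i) (isZero_zero _)
    refine ⟨0, fun i _ => hz i, fun i _ => inAddL_of_isZero (hz i),
      KFlatLib.isFinLocFree_of_isFinFree (KFlatLib.isFinFree_of_isZero (hz m)), ⟨?_⟩⟩
    haveI : IsIso (0 : DCoh.toD X (0 : CochainComplex X.Modules ℤ) ⟶ K) :=
      (DerivedCategory.isIso_iff _ _).2 fun i => isIso_of_source_target_iso_zero _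
        (PerfLib.isZero_HD_of_exactAt (ExactAt.of_isZero (hz i))).isoZero
        (hout i (by omega)).isoZero
    exact asIso (0 : DCoh.toD X (0 : CochainComplex X.Modules ℤ) ⟶ K)

end ResPropLib
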