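import Groth.Agent.ResPropLib.AmpleGlobal
import Mathlib.CategoryTheory.Functor.OfSequence
import Mathlib.CategoryTheory.Limits.Constructions.EventuallyConstant

/-!
# Global resolutions of pseudo-coherent objects
-/

set_option autoImplicit false
set_option linter.style.haveILetI false
set_option backward.isDefEq.respectTransparency false
set_option backward.isDefEq.respectTransparency.types false

universe u

open CategoryTheory CategoryTheory.Limits AlgebraicGeometry Pretriangulated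
open HomologicalComplex CochainComplex
open CategoryTheory.Abelian (Ext)
open scoped ZeroObject

attribute [local instance] HasDerivedCategory.standard

namespace ResPropLib

open Groth.Agent Groth.Agent.PerfLib

section General

variable {C : Type*} [Category C] [Abelian C]

/-- A map of cones is an isomorphism where the maps of sources and targets are. -/
theorem isIso_cone_map_f {E E' F : CochainComplex C ℤ} (χ : E ⟶ E') (φ : E ⟶ F) (φ' : E' ⟶ F)
    (h : φ ≫ 𝟙 F = χ ≫ φ') (k : ℤ) [IsIso (χ.f (k + 1))] :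
    IsIso ((mappingCone.map φ φ' χ (𝟙 F) h).f k) := by
  have hinl : (mappingCone.inl φ).v (k + 1) k (by omega) ≫ (mappingCone.map φ φ' χ (𝟙 F) h).f k =
      χ.f (k + 1) ≫ (mappingCone.inl φ').v (k + 1) k (by omega) := by simp [mappingCone.map]
  have hinr : (mappingCone.inr φ).f k ≫ (mappingCone.map φ φ' χ (𝟙 F) h).f k = (mappingCone.inr φ').f k := by
    simp [mappingCone.map]
  refine ⟨(mappingCone.fst φ').1.v k (k + 1) rfl ≫ inv (χ.f (k + 1)) ≫
      (mappingCone.inl φ).v (k + 1) k (by omega) +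
    (mappingCone.snd φ').v k k (add_zero k) ≫ (mappingCone.inr φ).f k, ?_, ?_⟩
  · rw [mappingCone.ext_from_iff φ (k + 1) k rfl]
    constructor
    · rw [← Category.assoc, hinl]
      simp
    · rw [← Category.assoc, hinr]
      simp
  · rw [Preadditive.add_comp]
    simp only [Category.assoc, hinl, hinr, IsIso.inv_hom_id_assoc]
    exact mappingCone.id_X φ' k (k + 1) rfl

variable [HasColimitsOfShape ℕ C]

/-- The colimit of approximations stabilising in each degree. -/
theorem exists_limit_resolution (Q : C → Prop) (hQi : ∀ ⦃G H : C⦄, (G ≅ H) → Q G → Q H)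
    {F : CochainComplex C ℤ} (b : ℤ) (E : ℕ → CochainComplex C ℤ) (φ : ∀ d, E d ⟶ F)
    (χ : ∀ d, E d ⟶ E (d + 1)) (hcomp : ∀ d, χ d ≫ φ (d + 1) = φ d)
    (hiso : ∀ (d : ℕ) (i : ℤ), b + 1 - d ≤ i → IsIso ((χ d).f i))
    (hb : ∀ d i, b < i → IsZero ((E d).X i)) (hQ : ∀ d i, Q ((E d).X i))
    (hC : ∀ (d : ℕ) (i : ℤ), b + 1 - (d : ℤ) ≤ i → (mappingCone (φ d)).ExactAt i) :
    ∃ (L : CochainComplex C ℤ) (ψ : L ⟶ F), (∀ i, (mappingCone ψ).ExactAt i) ∧
      (∀ i, b < i → IsZero (L.X i)) ∧ ∀ i, Q (L.X i) := by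
  let S : ℕ ⥤ CochainComplex C ℤ := Functor.ofSequence χ
  have hS : ∀ (d e : ℕ) (hde : d ≤ e) (i : ℤ), b + 1 - d ≤ i → IsIso ((S.map (homOfLE hde)).f i) := by
    intro d e hde
    induction e, hde using Nat.le_induction with
    | base =>
      intro i _
      rw [show (homOfLE (le_refl d) : d ⟶ d) = 𝟙 d from Subsingleton.elim _ _, S.map_id, HomologicalComplex.id_f]
      infer_instance
    | succ e hde ih =>
      intro i hi
      rw [← homOfLE_comp hde (Nat.le_add_right e 1), S.map_comp, HomologicalComplex.comp_f,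
        show S.map (homOfLE (Nat.le_add_right e 1)) = χ e from Functor.ofSequence_map_homOfLE_succ χ e]
      haveI := ih i hi
      haveI := hiso e i (by omega)
      infer_instance
  let c : Cocone S :=
    { pt := F
      ι := NatTrans.ofSequence (fun d => φ d) (fun d => by
        show S.map (homOfLE (Nat.le_add_right d 1)) ≫ φ (d + 1) = φ d ≫ 𝟙 F
        rw [show S.map (homOfLE (Nat.le_add_right d 1)) = χ d from Functor.ofSequence_map_homOfLE_succ χ d, hcomp,
          Category.comp_id]) }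
  let ψ : colimit S ⟶ F := colimit.desc S c
  have hι : ∀ (d : ℕ) (i : ℤ), b + 1 - d ≤ i → IsIso ((colimit.ι S d).f i) := fun d i hi => by
    have hev : (S ⋙ HomologicalComplex.eval C (ComplexShape.up ℤ) i).IsEventuallyConstantFrom d :=
      fun e f => hS d e (leOfHom f) i hi
    exact hev.isIso_ι_of_isColimit (isColimitOfPreserves (HomologicalComplex.eval C (ComplexShape.up ℤ) i)
      (colimit.isColimit S))
  have key : ∀ i : ℤ, ∃ d : ℕ, b + 1 - d ≤ i := fun i => ⟨(b + 1 - i).toNat, by omega⟩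
  refine ⟨colimit S, ψ, fun i => ?_, fun i hi => ?_, fun i => ?_⟩
  · obtain ⟨d, hd⟩ := key (i - 1)
    have hψ : φ d ≫ 𝟙 F = colimit.ι S d ≫ ψ := by
      rw [Category.comp_id]
      exact (colimit.ι_desc c d).symm
    have hk : ∀ k, i - 1 ≤ k → IsIso ((colimit.ι S d).f k) := fun k hk => hι d k (by omega)
    haveI := hk (i - 1 + 1) (by omega)
    haveI := hk (i + 1) (by omega)
    haveI := hk (i + 1 + 1) (by omega)
    haveI := isIso_cone_map_f (colimit.ι S d) (φ d) ψ hψ (i - 1)
    haveI := isIso_cone_map_f (colimit.ι S d) (φ d) ψ hψ i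
    haveI := isIso_cone_map_f (colimit.ι S d) (φ d) ψ hψ (i + 1)
    exact exactAt_of_isIso (mappingCone.map (φ d) ψ (colimit.ι S d) (𝟙 F) hψ) i (hC d i (by omega))
  · obtain ⟨d, hd⟩ := key i
    haveI := hι d i hd
    exact (hb d i hi).of_iso (asIso ((colimit.ι S d).f i)).symm
  · obtain ⟨d, hd⟩ := key i
    haveI := hι d i hd
    exact hQi (asIso ((colimit.ι S d).f i)) (hQ d i)

end General

variable {X : Scheme.{u}}

/-- The cone of a map from a strictly perfect complex to a pseudo-coherent one is pseudo-coherent. -/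
theorem isPC_cone {E F : CochainComplex X.Modules ℤ} (φ : E ⟶ F) (hE : DCoh.IsStrictlyPerfect E)
    (hF : ∀ k, DCoh.IsPseudoCoherentD k (DCoh.toD X F)) (k : ℤ) :
    DCoh.IsPseudoCoherentD k (DCoh.toD X (mappingCone φ)) :=
  isPC_obj₃ _ ((DerivedCategory.mem_distTriang_iff
    (DerivedCategory.Q.mapTriangle.obj (mappingCone.triangle φ))).2 ⟨_, _, φ, ⟨Iso.refl _⟩⟩) k
    (Groth.Agent.RelFlatLib.isPC_of_isPerfect (isPerfect_toD_of_strictlyPerfect hE) _) (hF k)

theorem isFT_homology_top_of_isPC {C : CochainComplex X.Modules ℤ}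
    (hC : ∀ k, DCoh.IsPseudoCoherentD k (DCoh.toD X C)) (n : ℤ)
    (h : ∀ i, n < i → C.ExactAt i) : CohB1.IsFT (C.homology n) := by
  refine isFT_of_iso ((DerivedCategory.homologyFunctorFactors X.Modules n).app C)
    (isFT_of_local fun x => ?_)
  obtain ⟨W, j, hj, v, N, q, hv, hN, hq, -⟩ := exists_model_top (show n - 1 ≤ n by omega)
    (hC _) (fun i hi => isZero_HD_of_exactAt (h i hi)) x
  exact ⟨W, j, hj, v, hv, N, q, hq, hN⟩

variable [CompactSpace X] [QuasiSeparatedSpace X] [HasExt.{u} X.Modules]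

/-- An approximation in degrees at least `s`. -/
structure Approx (Q : X.Modules → Prop) (F : CochainComplex X.Modules ℤ) (b s : ℤ) where
  E : CochainComplex X.Modules ℤ
  φ : E ⟶ F
  perf : DCoh.IsStrictlyPerfect E
  lo : ∀ i, i < s → IsZero (E.X i)
  hi : ∀ i, b < i → IsZero (E.X i)
  terms : ∀ i, Q (E.X i)
  exact : ∀ i, s ≤ i → (mappingCone φ).ExactAt i

/-- Pseudo-coherent objects with bounded cohomology. -/
theorem exists_pc_iso {ι : Type u} (L : ι → X.Modules) (hL : KSix.IsAmpleFamily L) (K : DCoh.D X)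
    (hK : ∀ k : ℤ, DCoh.IsPseudoCoherentD k K) (a b : ℤ) [K.IsGE a] [K.IsLE b] :
    ∃ (F : CochainComplex X.Modules ℤ) (c : ℤ), (∀ i : ℤ, c < i → IsZero (F.X i)) ∧
      (∀ i : ℤ, KSix.InAddL L (F.X i)) ∧ Nonempty (DCoh.toD X F ≅ K) := by
  have hX := hasResolutionProperty_of_isAmpleFamily L hL
  obtain ⟨I, hIa, hinj, ⟨e⟩⟩ := exists_injective_rep K a
  have hI : ∀ k, DCoh.IsPseudoCoherentD k (DCoh.toD X I) := fun k => isPC_of_iso e.symm (hK k)
  have hlift : LiftProp I := liftProp_of_eff' hX I a hIa (fun i => haveI := hinj i; eff_of_injective _)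
    fun φ hE => KiehlLib.isQCohD_of_isPC (isPC_cone φ hE hI)
  have hIb : ∀ i, b < i → I.ExactAt i := fun i hi => exactAt_of_isZero_HD
    ((K.isZero_of_isLE b i hi).of_iso ((DerivedCategory.homologyFunctor _ i).mapIso e))
  have step : ∀ (d : ℕ) (A : Approx (KSix.InAddL L) I b (b + 1 - d)),
      ∃ (B : Approx (KSix.InAddL L) I b (b + 1 - (d + 1 : ℕ))) (χ : A.E ⟶ B.E),
        χ ≫ B.φ = A.φ ∧ ∀ i, b + 1 - (d : ℤ) ≤ i → IsIso (χ.f i) := fun d A => by
    obtain ⟨E', χ, φ', hcomp, hE', hEm', hEQ', hC', hχ⟩ := exists_step (KSix.InAddL L)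
      (fun _ h => isFinLocFree_of_inAddL h) (fun _ _ e h => inAddL_of_iso e h) (exists_inAddL_epi L hL)
      A.φ hlift (b + 1 - d) A.perf A.lo A.terms A.exact
      (isFT_homology_top_of_isPC (isPC_cone A.φ A.perf hI) _ fun i hi => A.exact i (by omega))
    refine ⟨⟨E', φ', hE', fun i hi => hEm' i (by omega), fun i hi => ?_, hEQ', fun i hi => hC' i (by omega)⟩,
      χ, hcomp, hχ⟩
    by_cases h : b + 1 - (d : ℤ) ≤ i
    · haveI := hχ i h
      exact (A.hi i hi).of_iso (asIso (χ.f i)).symm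
    · omega
  choose next χ hcomp hχ using step
  obtain ⟨E₀, φ₀, hE₀, hz, hC₀⟩ := exists_start I b hIb
  let A : ∀ d : ℕ, Approx (KSix.InAddL L) I b (b + 1 - d) := fun d => Nat.rec
    ⟨E₀, φ₀, hE₀, fun i _ => hz i, fun i _ => hz i, fun i => inAddL_of_isZero (hz i),
      fun i hi => hC₀ i (by simpa using hi)⟩ (fun d A => next d A) d
  obtain ⟨F, ψ, hψ, hFb, hFQ⟩ := exists_limit_resolution (KSix.InAddL L) (fun _ _ e h => inAddL_of_iso e h) b
    (fun d => (A d).E) (fun d => (A d).φ) (fun d => χ d (A d)) (fun d => hcomp d (A d)) (fun d => hχ d (A d))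
    (fun d => (A d).hi) (fun d => (A d).terms) (fun d => (A d).exact)
  haveI : QuasiIso ψ := (KFlatLib.acyclic_cone_iff ψ).mp fun i => (exactAt_iff_isZero_homology _ i).1 (hψ i)
  exact ⟨F, b, hFb, hFQ, ⟨asIso (DerivedCategory.Q.map ψ) ≪≫ e⟩⟩

end ResPropLib
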