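import Groth.Agent.ResPropLib.Resolve
import Groth.Agent.KoszOrthLib.Adj
import Groth.Agent.QRlimLib.AcyclicPush
import Groth.Agent.TildeDerLib.Push
import Groth.Agent.PerfHomLib.Van
import Groth.Agent.PerfDualLib.Props
import Groth.Agent.LimHomLib.Extend
import Groth.Agent.S1009
import Mathlib.Algebra.Homology.DerivedCategory.Ext.ExactSequences
import Mathlib.CategoryTheory.Abelian.GrothendieckCategory.HasExt

/-!
# Effaceability of higher extensions by finite locally free modules
-/

set_option autoImplicit false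
set_option linter.style.haveILetI false
set_option backward.isDefEq.respectTransparency false
set_option backward.isDefEq.respectTransparency.types false

universe u

open CategoryTheory CategoryTheory.Limits AlgebraicGeometry TopologicalSpace Opposite
open CategoryTheory.Abelian (Ext)

attribute [local instance] HasDerivedCategory.standard

namespace ResPropLib

open Groth.Agent

variable {X : Scheme.{u}}

/-- Positive extensions of finite locally free modules by `A` die after refinement. -/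
def Eff [HasExt.{u} X.Modules] (A : X.Modules) : Prop :=
  ∀ (q : ℕ) (G : X.Modules), FlatMod.IsFinLocFree G → ∀ c : Ext G A (q + 1),
    ∃ (G' : X.Modules) (p : G' ⟶ G), FlatMod.IsFinLocFree G' ∧ Epi p ∧
      (Ext.mk₀ p).comp c (zero_add _) = 0

section

variable [HasExt.{u} X.Modules]

theorem eff_of_injective (A : X.Modules) [Injective A] : Eff A := fun _ G hG c =>
  ⟨G, 𝟙 G, hG, inferInstance, by rw [Ext.eq_zero_of_injective c, Ext.comp_zero]⟩

theorem eff_X₂ {S : ShortComplex X.Modules} (hS : S.ShortExact) (h₁ : Eff S.X₁) (h₃ : Eff S.X₃) :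
    Eff S.X₂ := by
  intro q G hG c
  obtain ⟨G₁, p₁, hG₁, hp₁, hc₁⟩ := h₃ q G hG (c.comp (Ext.mk₀ S.g) (add_zero _))
  rw [← Ext.comp_assoc (a₂₃ := q + 1) _ _ _ (zero_add (q + 1)) (add_zero _) (by omega)] at hc₁
  obtain ⟨c₁, hc'⟩ := Ext.covariant_sequence_exact₂ _ hS _ hc₁
  obtain ⟨G₂, p₂, hG₂, hp₂, hc₂⟩ := h₁ q G₁ hG₁ c₁
  refine ⟨G₂, p₂ ≫ p₁, hG₂, epi_comp _ _, ?_⟩
  rw [← Ext.mk₀_comp_mk₀, Ext.comp_assoc (a₂₃ := q + 1) _ _ _ (zero_add 0) (zero_add (q + 1)) (by omega), ← hc',
    ← Ext.comp_assoc (a₂₃ := q + 1) _ _ _ (zero_add (q + 1)) (add_zero _) (by omega), hc₂, Ext.zero_comp]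

theorem eff_biprod {A B : X.Modules} (hA : Eff A) (hB : Eff B) : Eff (A ⊞ B) :=
  eff_X₂ (ShortComplex.Splitting.ofHasBinaryBiproduct A B).shortExact hA hB

/-- Effaceability of the cokernel of a monomorphism into an effaceable object. -/
theorem eff_X₃ {S : ShortComplex X.Modules} (hS : S.ShortExact) (h₁ : Eff S.X₁) (h₂ : Eff S.X₂) :
    Eff S.X₃ := by
  intro q G hG c
  obtain ⟨G₁, p₁, hG₁, hp₁, hc₁⟩ := h₁ (q + 1) G hG (c.comp hS.extClass rfl)
  rw [← Ext.comp_assoc (a₂₃ := q + 1 + 1) _ _ _ (zero_add (q + 1)) rfl (by omega)] at hc₁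
  obtain ⟨c₂, hc'⟩ := Ext.covariant_sequence_exact₃ _ hS _ rfl hc₁
  obtain ⟨G₂, p₂, hG₂, hp₂, hc₂⟩ := h₂ q G₁ hG₁ c₂
  refine ⟨G₂, p₂ ≫ p₁, hG₂, epi_comp _ _, ?_⟩
  rw [← Ext.mk₀_comp_mk₀, Ext.comp_assoc (a₂₃ := q + 1) _ _ _ (zero_add 0) (zero_add (q + 1)) (by omega), ← hc',
    ← Ext.comp_assoc (a₂₃ := q + 1) _ _ _ (zero_add (q + 1)) (add_zero _) (by omega), hc₂, Ext.zero_comp]

theorem eff_of_iso {A B : X.Modules} (e : A ≅ B) (hA : Eff A) : Eff B := by
  intro q G hG c
  obtain ⟨G', p, hG', hp, h⟩ := hA q G hG (c.comp (Ext.mk₀ e.inv) (add_zero _))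
  refine ⟨G', p, hG', hp, ?_⟩
  have h' := congrArg (fun z => Ext.comp z (Ext.mk₀ e.hom) (add_zero (q + 1))) h
  rw [Ext.zero_comp, Ext.comp_assoc_of_third_deg_zero, Ext.comp_assoc_of_third_deg_zero,
    Ext.mk₀_comp_mk₀, e.inv_hom_id, Ext.comp_mk₀_id] at h'
  exact h'

end

theorem isFT_of_vb {M : X.Modules} (h : FlatMod.IsFinLocFree M) : CohB1.IsFT M := by
  choose U n hU e using h
  refine QCohLib.isFT_of_cover M U (eq_top_iff.2 fun p _ => Opens.mem_iSup.2 ⟨p, hU p⟩) fun p => ?_
  obtain ⟨e⟩ := e p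
  exact QCohLib.isFT_of_epi e.inv (PerfLib.isFT_freeModule _ _)

theorem isAffineHom_ι_of_inf {U : X.Opens} (hU : IsAffineOpen U)
    (h : ∀ V : X.Opens, IsAffineOpen V → IsAffineOpen (U ⊓ V)) : IsAffineHom U.ι where
  isAffine_preimage V hV := by
    rw [← U.ι.isAffineOpen_iff_of_isOpenImmersion, Scheme.Hom.image_preimage_eq_opensRange_inf,
      Scheme.Opens.opensRange_ι]
    exact h V hV

/-- `j^*G` admits no higher maps into a quasi-coherent module on an affine open. -/
theorem hom_single_eq_zero_of_isAffine {W : Scheme.{u}} [IsAffine W] {G N : W.Modules}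
    (hG : FlatMod.IsFinLocFree G) [Coh.IsQCoh N] (k : ℤ) (hk : k ≠ 0)
    (φ : DerivedCategory.Q.obj ((CochainComplex.singleFunctor W.Modules 0).obj G) ⟶
      DerivedCategory.Q.obj ((CochainComplex.singleFunctor W.Modules k).obj N)) : φ = 0 := by
  obtain ⟨G', i, r, hG', hir⟩ := PerfHomLib.exists_retract_of_isAffineOpen (isAffineOpen_top W) hG
  let F := (CochainComplex.singleFunctor W.Modules 0).obj G
  obtain ⟨e⟩ := PerfHomLib.nonempty_extQ_top F
  obtain ⟨lo, hi, hv⟩ : ∃ lo hi : ℤ, lo = 0 ∧ hi = 0 := ⟨0, 0, rfl, rfl⟩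
  have hvan : PerfHomLib.Van (DerivedCategory.Q.obj F) 0 0 := by
    refine PerfHomLib.Van.of_iso e ?_
    let J := CxOX.extZero (⊤ : W.Opens).ι
    let S := CochainComplex.singleFunctor W.Modules 0 ⋙ DerivedCategory.Q
    refine PerfHomLib.Van.of_iso (DerivedCategory.Q.mapIso
      ((HomologicalComplex.singleMapHomologicalComplex (PerfCompLib.extU (⊤ : W.Opens)) (ComplexShape.up ℤ) 0).app G).symm) ?_
    refine (PerfHomLib.van_single_free (isAffineOpen_top W) hG' 0).of_retract (S.map (J.map i)) (S.map (J.map r)) ?_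
    exact (S.map_comp _ _).symm.trans
      ((congrArg S.map ((J.map_comp i r).symm.trans ((congrArg J.map hir).trans (J.map_id _)))).trans (S.map_id _))
  have hex : ∀ i : ℤ, i ≠ k → IsZero (DCoh.HD (DCoh.toD W ((CochainComplex.singleFunctor W.Modules k).obj N)) i) :=
    fun i hi => PerfLib.isZero_HD_of_exactAt (HomologicalComplex.ExactAt.of_isZero
      (HomologicalComplex.isZero_single_obj_X (ComplexShape.up ℤ) k N i hi))
  refine hvan _ (fun i => ?_) (fun i h0 h1 => hex i (by omega)) φ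
  have hterms : ∀ i : ℤ, Coh.IsQCoh (((CochainComplex.singleFunctor W.Modules k).obj N).X i) := fun i => by
    by_cases hi : i = k
    · subst hi
      exact QCohLib.isQCoh_of_iso (M := N) (HomologicalComplex.singleObjXSelf (ComplexShape.up ℤ) i N).symm
    · exact QCohLib.isQCoh_of_isZero (HomologicalComplex.isZero_single_obj_X (ComplexShape.up ℤ) k N i hi)
  exact @QCohLib.isQCoh_of_iso _ _ _ ((DerivedCategory.homologyFunctorFactors W.Modules i).app _).symm
    (KFlatLib.isQCoh_homology_of_terms _ hterms i)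

/-- Finite locally free modules have no higher extensions by direct images from affine opens. -/
theorem ext_push_eq_zero [HasExt.{u} X.Modules] {U : X.Opens} (hU : IsAffineOpen U) [IsAffineHom U.ι]
    {G : X.Modules} (hG : FlatMod.IsFinLocFree G) (N : (U : Scheme.{u}).Modules) [Coh.IsQCoh N] (q : ℕ)
    (c : Ext G ((Scheme.Modules.pushforward U.ι).obj N) (q + 1)) : c = 0 := by
  haveI : IsAffine (U : Scheme.{u}) := hU
  haveI := DCohRestrLib.hasRpush U.ι
  haveI : EnoughInjectives (U : Scheme.{u}).Modules := IsGrothendieckAbelian.enoughInjectives.{u}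
  haveI : HasInjectiveResolutions (U : Scheme.{u}).Modules := inferInstance
  let k : ℤ := -((q + 1 : ℕ) : ℤ)
  let F := (CochainComplex.singleFunctor (U : Scheme.{u}).Modules k).obj N
  haveI : F.IsStrictlyGE k := by
    rw [CochainComplex.isStrictlyGE_iff]
    intro i hi
    exact HomologicalComplex.isZero_single_obj_X (ComplexShape.up ℤ) k N i (by omega)
  haveI : IsIso ((QRlimLib.rpushUnit U.ι).app
      ((HomotopyCategory.quotient (U : Scheme.{u}).Modules (ComplexShape.up ℤ)).obj F)) := by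
    refine QRlimLib.isIso_rpushUnit_of_bddBelow U.ι F k fun n i hi => ?_
    by_cases hn : n = k
    · subst hn
      exact (TildeDerLib.isZero_Rpush_affine U.ι N i hi).of_iso
        ((Coh.Rpush U.ι i).mapIso (HomologicalComplex.singleObjXSelf (ComplexShape.up ℤ) k N))
    · exact (Coh.Rpush U.ι i).map_isZero (HomologicalComplex.isZero_single_obj_X (ComplexShape.up ℤ) k N n hn)
  let P := (Scheme.Modules.pushforward U.ι).obj N
  let eP : DerivedCategory.Q.obj ((CochainComplex.singleFunctor X.Modules k).obj P) ≅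
      (DCoh.Rpush U.ι).obj (DerivedCategory.Q.obj F) :=
    DerivedCategory.Q.mapIso ((HomologicalComplex.singleMapHomologicalComplex
      (Scheme.Modules.pushforward U.ι) (ComplexShape.up ℤ) k).symm.app N) ≪≫
    asIso ((QRlimLib.rpushUnit U.ι).app
      ((HomotopyCategory.quotient (U : Scheme.{u}).Modules (ComplexShape.up ℤ)).obj F))
  let adj := KoszOrthLib.restrictRpushAdj U.ι
  let eG : (DCoh.restrictD U.ι).obj (DerivedCategory.Q.obj ((CochainComplex.singleFunctor X.Modules 0).obj G)) ≅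
      DerivedCategory.Q.obj ((CochainComplex.singleFunctor (U : Scheme.{u}).Modules 0).obj (G.restrict U.ι)) :=
    (Scheme.Modules.restrictFunctor U.ι).mapDerivedCategoryFactors.app _ ≪≫
    DerivedCategory.Q.mapIso ((HomologicalComplex.singleMapHomologicalComplex
      (Scheme.Modules.restrictFunctor U.ι) (ComplexShape.up ℤ) 0).app G)
  have key : ∀ ψ : DerivedCategory.Q.obj ((CochainComplex.singleFunctor X.Modules 0).obj G) ⟶
      DerivedCategory.Q.obj ((CochainComplex.singleFunctor X.Modules k).obj P), ψ = 0 := by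
    intro ψ
    rw [← cancel_mono eP.hom, zero_comp]
    have h2 : eG.inv ≫ (adj.homEquiv _ _).symm (ψ ≫ eP.hom) = 0 :=
      hom_single_eq_zero_of_isAffine (PerfLib.isFinLocFree_res U.ι hG) k (by omega) _
    have h3 : (adj.homEquiv _ _).symm (ψ ≫ eP.hom) = 0 := by
      rw [← cancel_epi eG.inv, h2, comp_zero]
    apply (adj.homEquiv _ _).symm.injective
    rw [h3, Adjunction.homEquiv_counit, Functor.map_zero, zero_comp]
  apply Ext.homEquiv.injective
  let S := DerivedCategory.singleFunctors X.Modules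
  let eT : ((DerivedCategory.singleFunctor X.Modules 0).obj P)⟦((q + 1 : ℕ) : ℤ)⟧ ≅
      DerivedCategory.Q.obj ((CochainComplex.singleFunctor X.Modules k).obj P) :=
    (S.shiftIso ((q + 1 : ℕ) : ℤ) k 0 (by omega)).app P ≪≫
      (DerivedCategory.singleFunctorIsoCompQ X.Modules k).app P
  let eS := (DerivedCategory.singleFunctorIsoCompQ X.Modules 0).app G
  have h : ∀ g : (DerivedCategory.singleFunctor X.Modules 0).obj G ⟶
      ((DerivedCategory.singleFunctor X.Modules 0).obj P)⟦((q + 1 : ℕ) : ℤ)⟧, g = 0 := fun g => by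
    rw [← cancel_mono eT.hom, ← cancel_epi eS.inv, zero_comp, comp_zero]
    exact key _
  exact (h _).trans (h _).symm

variable [CompactSpace X] [QuasiSeparatedSpace X]

/-- Quasi-coherent modules are effaceable. -/
theorem eff_of_isQCoh [HasExt.{u} X.Modules] (hX : PerfAux.HasResolutionProperty X) :
    ∀ (M : X.Modules) [Coh.IsQCoh M], Eff M := by
  classical
  choose U hU hxU using fun x : X => QCohLib.exists_affine_nhd x
  obtain ⟨t, ht⟩ := isCompact_univ.elim_finite_subcover (fun x => (U x : Set X)) (fun x => (U x).2)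
    fun x _ => Set.mem_iUnion.mpr ⟨x, hxU x⟩
  haveI haff : ∀ x : X, IsAffineHom (U x).ι := fun x =>
    isAffineHom_ι_of_inf (hU x) fun V hV => Groth.Agent.S1009.result X hX (U x) V (hU x) hV
  -- a monomorphism into a module without higher extensions
  have emb : ∀ (M : X.Modules) [Coh.IsQCoh M], ∃ (P : X.Modules) (ι : M ⟶ P), Coh.IsQCoh P ∧ Mono ι ∧
      ∀ (q : ℕ) (G : X.Modules), FlatMod.IsFinLocFree G → ∀ c : Ext G P (q + 1), c = 0 := by
    intro M _
    haveI : HasFiniteBiproducts X.Modules := Abelian.hasFiniteBiproducts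
    haveI : ∀ x : X, Coh.IsQCoh (M.restrict (U x).ι) := fun x => PerfDualLib.isQCoh_restrict M _
    let B : {x // x ∈ t} → X.Modules := fun x =>
      (Scheme.Modules.pushforward (U x.1).ι).obj (M.restrict (U x.1).ι)
    let η : ∀ x : {x // x ∈ t}, M ⟶ B x := fun x =>
      (Scheme.Modules.restrictAdjunction (U x.1).ι).unit.app M
    haveI hB : ∀ x, Coh.IsQCoh (B x) := fun x => QCohLib.isQCoh_pushforward _ _
    haveI : Coh.IsQCoh (∐ B) := QCohLib.isQCoh_sigma _ hB
    haveI : Coh.IsQCoh (⨁ B) := QCohLib.isQCoh_of_iso (M := ∐ B) (biproduct.isoCoproduct B).symm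
    refine ⟨⨁ B, biproduct.lift η, inferInstance, ?_, fun q G hG c => ?_⟩
    · haveI := QCohLib.isQCoh_kernel (biproduct.lift η)
      refine Preadditive.mono_of_kernel_zero ?_
      refine PerfLib.isZero_of_cover (M := kernel (biproduct.lift η)) (fun x => ?_) |>.eq_of_src _ _
      obtain ⟨y, hy, hxy⟩ := Set.mem_iUnion₂.mp (ht (Set.mem_univ x))
      refine ⟨U y, hxy, ?_⟩
      let R := Scheme.Modules.restrictFunctor (U y).ι
      haveI : PreservesFiniteLimits R := LimHomLib.preservesFiniteLimits_restrict (U y)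
      haveI : Mono (R.map (kernel.ι (biproduct.lift η))) := inferInstance
      have h0 : R.map (kernel.ι (biproduct.lift η)) = 0 := by
        have h1 : kernel.ι (biproduct.lift η) ≫ η ⟨y, hy⟩ = 0 := by
          rw [← biproduct.lift_π (f := B) η ⟨y, hy⟩, ← Category.assoc, kernel.condition, zero_comp]
        have h2 := congrArg (fun z => R.map z ≫
          (Scheme.Modules.restrictAdjunction (U y).ι).counit.app (M.restrict (U y).ι)) h1
        simp only [Functor.map_comp, Functor.map_zero, zero_comp, Category.assoc] at h2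
        rwa [show R.map (η ⟨y, hy⟩) ≫ (Scheme.Modules.restrictAdjunction (U y).ι).counit.app _ = 𝟙 _ from
          (Scheme.Modules.restrictAdjunction (U y).ι).left_triangle_components M, Category.comp_id] at h2
      exact IsZero.of_mono_eq_zero _ h0
    · have htot : (∑ x, biproduct.π B x ≫ biproduct.ι B x) = 𝟙 (⨁ B) := by
        apply biproduct.hom_ext
        intro j
        rw [Preadditive.sum_comp, Category.id_comp, Finset.sum_eq_single j]
        · simp
        · intro x _ hx
          rw [Category.assoc, biproduct.ι_π_ne B hx, comp_zero]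
        · simp
      rw [← Ext.comp_mk₀_id c, ← htot, Ext.mk₀_sum, Ext.comp_sum]
      refine Finset.sum_eq_zero fun x _ => ?_
      rw [← Ext.mk₀_comp_mk₀, ← Ext.comp_assoc_of_third_deg_zero,
        ext_push_eq_zero (hU x.1) hG (M.restrict (U x.1).ι) q (c.comp (Ext.mk₀ (biproduct.π B x)) (add_zero _)),
        Ext.zero_comp]
  intro M _ q
  induction q generalizing M with
  | zero =>
    intro G hG c
    obtain ⟨P, ι, hP, hι, hzero⟩ := emb M
    haveI := hι
    haveI := hP
    let S := ShortComplex.mk ι (cokernel.π ι) (cokernel.condition ι)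
    have hS : S.ShortExact :=
      { exact := ShortComplex.exact_of_g_is_cokernel _ (cokernelIsCokernel ι) }
    obtain ⟨g, hg⟩ := Ext.covariant_sequence_exact₁ _ hS c (hzero 0 G hG _) (zero_add 1)
    obtain ⟨f, rfl⟩ := (Ext.mk₀_bijective _ _).2 g
    haveI : Coh.IsQCoh S.X₃ := QCohLib.isQCoh_cokernel ι
    haveI : Coh.IsQCoh G := FinLFAnn.isQCoh_of_isFinLocFree hG
    haveI : Coh.IsQCoh (G ⊞ P) := QCohLib.isQCoh_biprod G P
    haveI : Epi S.g := hS.epi_g
    let d : G ⊞ P ⟶ S.X₃ := biprod.desc f (-S.g)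
    haveI : Coh.IsQCoh (kernel d) := QCohLib.isQCoh_kernel d
    let p₀ : kernel d ⟶ G := kernel.ι d ≫ biprod.fst
    haveI : Epi p₀ := by
      rw [epi_iff_surjective_up_to_refinements]
      intro A a
      obtain ⟨A', π, hπ, b, hb⟩ := surjective_up_to_refinements_of_epi S.g (a ≫ f)
      refine ⟨A', π, hπ, kernel.lift d (biprod.lift (π ≫ a) b) (by simp [d, hb]), ?_⟩
      simp [p₀]
    have : CohB1.IsFT G := isFT_of_vb hG
    obtain ⟨G', l, hG', hl⟩ := exists_vb_lift hX p₀ this
    refine ⟨G', l ≫ p₀, hG', hl, ?_⟩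
    have hfac : (l ≫ p₀) ≫ f = (l ≫ kernel.ι d ≫ biprod.snd) ≫ S.g := by
      have h0 := congrArg (l ≫ ·) (kernel.condition d)
      have hd : kernel.ι d ≫ d = (kernel.ι d ≫ biprod.fst) ≫ f - (kernel.ι d ≫ biprod.snd) ≫ S.g := by
        simp [d, biprod.desc_eq, Preadditive.comp_add, sub_eq_add_neg]
      simp only [hd, comp_zero, Preadditive.comp_sub, sub_eq_zero] at h0
      simpa [p₀] using h0
    rw [← hg, ← Ext.comp_assoc (a₂₃ := 0 + 1) _ _ _ (zero_add 0) (zero_add 1) (by omega), Ext.mk₀_comp_mk₀, hfac,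
      ← Ext.mk₀_comp_mk₀, Ext.comp_assoc (a₂₃ := 1) _ _ _ (zero_add 0) (zero_add 1) (by omega),
      hS.comp_extClass, Ext.comp_zero]
  | succ q ih =>
    intro G hG c
    obtain ⟨P, ι, hP, hι, hzero⟩ := emb M
    haveI := hι
    haveI := hP
    let S := ShortComplex.mk ι (cokernel.π ι) (cokernel.condition ι)
    have hS : S.ShortExact :=
      { exact := ShortComplex.exact_of_g_is_cokernel _ (cokernelIsCokernel ι) }
    obtain ⟨g, hg⟩ := Ext.covariant_sequence_exact₁ _ hS c (hzero (q + 1) G hG _) rfl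
    haveI : Coh.IsQCoh S.X₃ := QCohLib.isQCoh_cokernel ι
    obtain ⟨G', p, hG', hp, hp0⟩ := ih S.X₃ G hG g
    refine ⟨G', p, hG', hp, ?_⟩
    rw [← hg, ← Ext.comp_assoc (a₂₃ := q + 1 + 1) _ _ _ (zero_add (q + 1)) rfl (by omega), hp0, Ext.zero_comp]

end ResPropLib
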