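import Mathlib

/-!
# Killing the cohomology of a mapping cone in one degree
-/

set_option autoImplicit false

universe v u

open CategoryTheory CategoryTheory.Limits HomologicalComplex CochainComplex CochainComplex.HomComplex

namespace ResPropLib

variable {C : Type u} [Category.{v} C] [Abelian C]

theorem isIso_inr_f {S E : CochainComplex C ℤ} (ψ : S ⟶ E) (k : ℤ) (hS : IsZero (S.X (k + 1))) :
    IsIso ((mappingCone.inr ψ).f k) := by
  refine ⟨(mappingCone.snd ψ).v k k (add_zero k), by simp, ?_⟩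
  have h := mappingCone.id_X ψ k (k + 1) rfl
  rwa [hS.eq_of_tgt ((mappingCone.fst ψ).1.v k (k + 1) rfl) 0, zero_comp, zero_add] at h

theorem exactAt_of_isIso {K L : CochainComplex C ℤ} (χ : K ⟶ L) (i : ℤ)
    [IsIso (χ.f (i - 1))] [IsIso (χ.f i)] [IsIso (χ.f (i + 1))] (hK : K.ExactAt i) :
    L.ExactAt i := by
  rw [exactAt_iff' _ (i - 1) i (i + 1) (by simp) (by simp)] at hK ⊢
  let e₁ := asIso (χ.f (i - 1))
  let e₂ := asIso (χ.f i)
  let e₃ := asIso (χ.f (i + 1))
  exact (ShortComplex.exact_iff_of_iso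
    (ShortComplex.isoMk e₁ e₂ e₃ (χ.comm _ _) (χ.comm _ _))).mp hK

theorem isIso_inl_v {S E : CochainComplex C ℤ} (ψ : S ⟶ E) (p q : ℤ) (h : p + (-1) = q) (hE : IsZero (E.X q)) :
    IsIso ((mappingCone.inl ψ).v p q h) := by
  refine ⟨(mappingCone.fst ψ).1.v q p (by omega), by simp, ?_⟩
  have h' := mappingCone.id_X ψ q p (by omega)
  rwa [hE.eq_of_tgt ((mappingCone.snd ψ).v q q (add_zero q)) 0, zero_comp, add_zero] at h'

/-- A cycle of the mapping cone with a map onto its cohomology in degree `m - 1` enlarges the source. -/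
theorem exists_kill {E F : CochainComplex C ℤ} (φ : E ⟶ F) (m : ℤ)
    (hC : ∀ i, m ≤ i → (mappingCone φ).ExactAt i) {G : C}
    (l : G ⟶ (mappingCone φ).cycles (m - 1)) [Epi (l ≫ (mappingCone φ).homologyπ (m - 1))] :
    ∃ (ψ : (singleFunctor C m).obj G ⟶ E) (φ' : mappingCone ψ ⟶ F),
      (∀ i, m - 1 ≤ i → (mappingCone φ').ExactAt i) ∧
        (Mono l → IsZero (E.X (m - 1)) → IsZero (F.X (m - 2)) → (mappingCone φ').ExactAt (m - 2)) ∧
        mappingCone.inr ψ ≫ φ' = φ := by
  let c := l ≫ (mappingCone φ).iCycles (m - 1)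
  have hc : c ≫ (mappingCone φ).d (m - 1) m = 0 := by
    simp [c]
  let u : G ⟶ E.X m := c ≫ (mappingCone.fst φ).1.v (m - 1) m (by omega)
  let v : G ⟶ F.X (m - 1) := c ≫ (mappingCone.snd φ).v (m - 1) (m - 1) (add_zero _)
  have hu : u ≫ E.d m (m + 1) = 0 := by
    have h := congrArg (fun t => t ≫ (mappingCone.fst φ).1.v m (m + 1) rfl) hc
    simp only [Category.assoc, zero_comp, mappingCone.d_fst_v φ (m - 1) m (m + 1) (by omega) rfl,
      Preadditive.comp_neg, neg_eq_zero] at h
    simpa [u] using h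
  have huv : u ≫ φ.f m + v ≫ F.d (m - 1) m = 0 := by
    have h := congrArg (fun t => t ≫ (mappingCone.snd φ).v m m (add_zero _)) hc
    simp only [Category.assoc, zero_comp, mappingCone.d_snd_v φ (m - 1) m (by omega),
      Preadditive.comp_add] at h
    simpa [u, v] using h
  let i₀ : ((singleFunctor C m).obj G).X m ≅ G := singleObjXSelf (.up ℤ) m G
  let ψ : (singleFunctor C m).obj G ⟶ E :=
    mkHomFromSingle u (fun k hk => by obtain rfl : m + 1 = k := hk; exact hu)
  have hψ : ψ.f m = i₀.hom ≫ u := mkHomFromSingle_f _ _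
  let z : Cochain ((singleFunctor C m).obj G) F (-1) := Cochain.fromSingleMk (-v) (show m + (-1) = m - 1 by omega)
  have hz : δ (-1) 0 z = Cochain.ofHom (ψ ≫ φ) := by
    rw [Cochain.δ_fromSingleMk _ _ 0 m (add_zero m)]
    ext p
    by_cases hp : p = m
    · subst hp
      rw [Cochain.fromSingleMk_v, Cochain.ofHom_v, HomologicalComplex.comp_f, hψ, Preadditive.neg_comp,
        ← eq_neg_of_add_eq_zero_left huv]
      exact (Category.assoc _ _ _).symm
    · exact (HomologicalComplex.isZero_single_obj_X _ _ _ _ hp).eq_of_src _ _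
  let φ' := mappingCone.desc ψ z φ hz
  let χ : mappingCone φ ⟶ mappingCone φ' := mappingCone.map φ φ' (mappingCone.inr ψ) (𝟙 F)
    (by simp [φ'])
  have hinl : ∀ (p q : ℤ) (h : p + (-1) = q),
      (mappingCone.inl φ).v p q h ≫ χ.f q = (mappingCone.inr ψ).f p ≫ (mappingCone.inl φ').v p q h := by
    intro p q h
    simp [χ, mappingCone.map]
  have hinr : ∀ p : ℤ, (mappingCone.inr φ).f p ≫ χ.f p = (mappingCone.inr φ').f p := by
    intro p
    simp [χ, mappingCone.map]
  have hiso : ∀ i, m - 1 ≤ i → IsIso (χ.f i) := by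
    intro i hi
    haveI := isIso_inr_f ψ (i + 1) (HomologicalComplex.isZero_single_obj_X _ _ _ _ (by omega))
    refine ⟨(mappingCone.fst φ').1.v i (i + 1) rfl ≫ inv ((mappingCone.inr ψ).f (i + 1)) ≫
        (mappingCone.inl φ).v (i + 1) i (by omega) +
      (mappingCone.snd φ').v i i (add_zero i) ≫ (mappingCone.inr φ).f i, ?_, ?_⟩
    · rw [mappingCone.ext_from_iff φ (i + 1) i rfl]
      constructor
      · rw [← Category.assoc, hinl]
        simp
      · rw [← Category.assoc, hinr]
        simp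
    · rw [Preadditive.add_comp]
      simp only [Category.assoc, hinl, hinr, IsIso.inv_hom_id_assoc]
      exact mappingCone.id_X φ' i (i + 1) rfl
  let ι' : G ⟶ (mappingCone φ').X (m - 2) := i₀.inv ≫
    (mappingCone.inl ψ).v m (m - 1) (by omega) ≫ (mappingCone.inl φ').v (m - 1) (m - 2) (by omega)
  have hcdec : c = u ≫ (mappingCone.inl φ).v m (m - 1) (by omega) + v ≫ (mappingCone.inr φ).f (m - 1) := by
    simp only [u, v, Category.assoc, ← Preadditive.comp_add, mappingCone.id_X φ (m - 1) m (by omega),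
      Category.comp_id]
  have hι' : ι' ≫ (mappingCone φ').d (m - 2) (m - 1) = -(c ≫ χ.f (m - 1)) := by
    simp only [ι', Category.assoc, mappingCone.inl_v_d φ' (m - 1) (m - 2) m (by omega) (by omega),
      Preadditive.comp_sub]
    have h1 : (mappingCone.inl ψ).v m (m - 1) (by omega) ≫ φ'.f (m - 1) =
        i₀.hom ≫ (-v) := by
      rw [mappingCone.inl_v_desc_f]
      exact Cochain.fromSingleMk_v _ _
    have h2 : (mappingCone.inl ψ).v m (m - 1) (by omega) ≫ (mappingCone ψ).d (m - 1) m =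
        i₀.hom ≫ u ≫ (mappingCone.inr ψ).f m := by
      have h0 : ((singleFunctor C m).obj G).d m (m + 1) = 0 :=
        (HomologicalComplex.isZero_single_obj_X (ComplexShape.up ℤ) m G (m + 1) (by omega)).eq_of_tgt _ _
      rw [mappingCone.inl_v_d ψ m (m - 1) (m + 1) (by omega) (by omega), hψ, Category.assoc, h0, zero_comp,
        sub_zero]
    rw [reassoc_of% h1, reassoc_of% h2, hcdec]
    simp only [Iso.inv_hom_id_assoc, Preadditive.add_comp, Category.assoc, hinl, hinr,
      Preadditive.neg_comp]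
    abel
  refine ⟨ψ, φ', fun i hi => ?_, fun hl hE hF => ?_, mappingCone.inr_desc ψ z φ hz⟩
  rotate_left
  · haveI := hl
    haveI := hiso (m - 1) le_rfl
    haveI : Mono c := mono_comp _ _
    haveI := isIso_inl_v ψ m (m - 1) (by omega) hE
    haveI := isIso_inl_v φ' (m - 1) (m - 2) (by omega) hF
    haveI : IsIso ι' := inferInstance
    rw [exactAt_iff' _ (m - 3) (m - 2) (m - 1) (by simp; omega) (by simp; omega),
      ShortComplex.exact_iff_exact_up_to_refinements]
    intro A (y : A ⟶ (mappingCone φ').X (m - 2)) (hy : y ≫ (mappingCone φ').d (m - 2) (m - 1) = 0)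
    have hy' : (y ≫ inv ι') ≫ c ≫ χ.f (m - 1) = 0 := by
      have h := hy
      rw [show y = (y ≫ inv ι') ≫ ι' by simp, Category.assoc, hι', Preadditive.comp_neg, neg_eq_zero] at h
      exact h
    have hy0 : y = 0 := by
      rw [← cancel_mono (inv ι'), zero_comp, ← cancel_mono (c ≫ χ.f (m - 1)), hy', zero_comp]
    exact ⟨A, 𝟙 A, inferInstance, (0 : A ⟶ (mappingCone φ').X (m - 3)), by
      show 𝟙 A ≫ y = 0 ≫ (mappingCone φ').d (m - 3) (m - 2)
      rw [hy0, comp_zero, zero_comp]⟩
  rcases lt_or_eq_of_le hi with hi' | hi'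
  · haveI := hiso (i - 1) (by omega)
    haveI := hiso i (by omega)
    haveI := hiso (i + 1) (by omega)
    exact exactAt_of_isIso χ i (hC i (by omega))
  obtain rfl : m - 1 = i := hi'
  rw [exactAt_iff' _ (m - 2) (m - 1) m (by simp; omega) (by simp), ShortComplex.exact_iff_exact_up_to_refinements]
  intro A (y : A ⟶ (mappingCone φ').X (m - 1)) (hy : y ≫ (mappingCone φ').d (m - 1) m = 0)
  haveI := hiso (m - 1) le_rfl
  haveI := hiso m (by omega)
  let y₀ := y ≫ inv (χ.f (m - 1))
  have hy₀ : y₀ ≫ (mappingCone φ).d (m - 1) m = 0 := by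
    rw [← cancel_mono (χ.f m), Category.assoc, ← χ.comm, zero_comp]
    simp only [y₀, Category.assoc, IsIso.inv_hom_id_assoc, hy]
  obtain ⟨A', π, hπ, e, he⟩ := surjective_up_to_refinements_of_epi (l ≫ (mappingCone φ).homologyπ (m - 1))
    ((mappingCone φ).liftCycles y₀ m (by simp) hy₀ ≫ (mappingCone φ).homologyπ (m - 1))
  rw [← Category.assoc, ← Category.assoc] at he
  obtain ⟨A'', π', hπ', x, hx⟩ :=
    ((mappingCone φ).comp_homologyπ_eq_iff_up_to_refinements (m - 2) (m - 1) (by simp; omega) _ _).mp he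
  replace hx := congrArg (· ≫ (mappingCone φ).iCycles (m - 1)) hx
  simp only [Preadditive.add_comp, Category.assoc, liftCycles_i, toCycles_i] at hx
  change π' ≫ π ≫ y₀ = π' ≫ e ≫ c + _ at hx
  refine ⟨A'', π' ≫ π, epi_comp _ _, x ≫ χ.f (m - 2) - π' ≫ e ≫ ι', ?_⟩
  change (π' ≫ π) ≫ y = (x ≫ χ.f (m - 2) - π' ≫ e ≫ ι') ≫ (mappingCone φ').d (m - 2) (m - 1)
  simp only [Preadditive.sub_comp, Category.assoc, hι', Preadditive.comp_neg, sub_neg_eq_add, χ.comm]
  have := congrArg (· ≫ χ.f (m - 1)) hx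
  simp only [Preadditive.add_comp, Category.assoc, y₀, IsIso.inv_hom_id, Category.comp_id] at this
  rw [this, add_comm]

end ResPropLib
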