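import Groth.Agent.ResPropLib.Main
import Groth.Agent.PerfLib.Strict

/-!
# A criterion for localization functors, and perfect complexes
-/

set_option autoImplicit false
set_option linter.style.haveILetI false
set_option backward.isDefEq.respectTransparency false
set_option backward.isDefEq.respectTransparency.types false

universe w v u v₁ u₁ v₂ u₂

open CategoryTheory CategoryTheory.Limits AlgebraicGeometry
open CategoryTheory.Abelian (Ext)

attribute [local instance] HasDerivedCategory.standard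

namespace ResPropLib

section Criterion

variable {C : Type u₁} [Category.{v₁} C] {D : Type u₂} [Category.{v₂} D] (Φ : C ⥤ D) (W : MorphismProperty C)

/-- A functor with roofs, equal only on morphisms already equal after inverting `W`, is a
localization functor. -/
theorem isLocalization_of_roofs [W.IsStableUnderComposition] (hinv : W.IsInvertedBy Φ) (hes : Φ.EssSurj)
    (hid : ∀ E : C, W (𝟙 E))
    (hroof : ∀ ⦃E F : C⦄ (α : Φ.obj E ⟶ Φ.obj F), ∃ (G : C) (g : G ⟶ E) (h : G ⟶ F), W g ∧ Φ.map g ≫ α = Φ.map h)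
    (heq : ∀ ⦃E F : C⦄ (α β : E ⟶ F), Φ.map α = Φ.map β → W.Q.map α = W.Q.map β) :
    Φ.IsLocalization W := by
  let L := Localization.Construction.lift Φ hinv
  have hfac : W.Q ⋙ L = Φ := Localization.Construction.fac Φ hinv
  have hmap : ∀ ⦃E F : C⦄ (f : E ⟶ F), L.map (W.Q.map f) = Φ.map f := fun E F f => by
    have := Functor.congr_hom hfac f
    simp only [Functor.comp_map, eqToHom_refl, Category.comp_id, Category.id_comp] at this
    exact this
  let P : MorphismProperty W.Localization := fun X Y φ => ∃ (G : C) (g : G ⟶ X.as.obj) (h : G ⟶ Y.as.obj),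
    W g ∧ (W.Q.map g : W.Q.obj G ⟶ X) ≫ φ = W.Q.map h
  haveI : P.IsStableUnderComposition := ⟨fun {X Y Z} φ ψ ⟨G, g, h, hg, hgh⟩ ⟨G', g', h', hg', hgh'⟩ => by
    haveI := hinv g' hg'
    obtain ⟨G'', g'', h'', hg'', hgh''⟩ := hroof (Φ.map h ≫ inv (Φ.map g'))
    have e : W.Q.map (g'' ≫ h) = W.Q.map (h'' ≫ g') := heq _ _ (by
      rw [Φ.map_comp, Φ.map_comp, ← hgh'', Category.assoc, Category.assoc, IsIso.inv_hom_id, Category.comp_id])
    refine ⟨G'', g'' ≫ g, h'' ≫ h', W.comp_mem _ _ hg'' hg, ?_⟩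
    rw [Functor.map_comp, Functor.map_comp] at e
    rw [Functor.map_comp, Functor.map_comp, Category.assoc, reassoc_of% hgh, reassoc_of% e, hgh']⟩
  have hP : P = ⊤ := Localization.Construction.morphismProperty_eq_top P
    (fun X Y f => ⟨X, 𝟙 X, f, hid X, by rw [CategoryTheory.Functor.map_id]; exact Category.id_comp _⟩)
    (fun X Y w hw => ⟨X, w, 𝟙 X, hw, by
      rw [CategoryTheory.Functor.map_id]
      exact (Localization.Construction.wIso w hw).hom_inv_id⟩)
  haveI : L.Faithful := ⟨fun {X Y} φ₁ φ₂ hφ => by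
    have hP1 : P φ₁ := by rw [hP]; trivial
    have hP2 : P φ₂ := by rw [hP]; trivial
    obtain ⟨G₁, g₁, h₁, hg₁, e₁⟩ := hP1
    obtain ⟨G₂, g₂, h₂, hg₂, e₂⟩ := hP2
    haveI := hinv g₂ hg₂
    obtain ⟨G, g, k, hg, hgk⟩ := hroof (Φ.map g₁ ≫ inv (Φ.map g₂))
    have e : Φ.map (g ≫ g₁) = Φ.map (k ≫ g₂) := by
      rw [Φ.map_comp, Φ.map_comp, ← hgk, Category.assoc, Category.assoc, IsIso.inv_hom_id, Category.comp_id]
    have e' := heq _ _ e
    haveI := Localization.inverts W.Q W _ (W.comp_mem _ _ hg hg₁)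
    have E₁ : W.Q.map (g ≫ g₁) ≫ φ₁ = W.Q.map (g ≫ h₁) := by
      rw [Functor.map_comp, Functor.map_comp, Category.assoc, e₁]
    have E₂ : W.Q.map (g ≫ g₁) ≫ φ₂ = W.Q.map (k ≫ h₂) := by
      rw [e', Functor.map_comp, Functor.map_comp, Category.assoc, e₂]
    refine (cancel_epi (W.Q.map (g ≫ g₁))).1 ?_
    rw [E₁, E₂]
    refine heq _ _ ?_
    rw [← hmap, ← hmap, ← E₁, ← E₂, L.map_comp, L.map_comp, hφ]⟩
  haveI : L.Full := ⟨fun {X Y} α => by
    obtain ⟨G, g, h, hg, hgh⟩ := hroof (E := X.as.obj) (F := Y.as.obj) α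
    haveI := Localization.inverts W.Q W g hg
    refine ⟨inv (W.Q.map g) ≫ W.Q.map h, ?_⟩
    haveI := hinv g hg
    refine (cancel_epi (Φ.map g)).1 ?_
    refine Eq.trans ?_ hgh.symm
    rw [← hmap g, ← L.map_comp]
    refine Eq.trans (congrArg L.map ?_) (hmap h)
    exact IsIso.hom_inv_id_assoc _ _⟩
  haveI : L.EssSurj := ⟨fun Y => by
    obtain ⟨E, ⟨e⟩⟩ := hes.mem_essImage Y
    exact ⟨W.Q.obj E, ⟨e⟩⟩⟩
  exact { inverts := hinv, isEquivalence := { } }

end Criterion

section Perfect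

variable {X : Scheme.{u}}

open Groth.Agent

theorem isStrictlyPerfect_biprod {E F : CochainComplex X.Modules ℤ} (hE : DCoh.IsStrictlyPerfect E)
    (hF : DCoh.IsStrictlyPerfect F) : DCoh.IsStrictlyPerfect (E ⊞ F) := by
  obtain ⟨⟨a, b, h⟩, hE⟩ := hE
  obtain ⟨⟨a', b', h'⟩, hF⟩ := hF
  refine ⟨⟨min a a', max b b', fun i hi => ?_⟩, fun i =>
    PerfLib.isFinLocFree_of_iso (HomologicalComplex.biprodXIso E F i).symm (PerfLib.isFinLocFree_biprod (hE i) (hF i))⟩
  refine (IsZero.of_iso ?_ (HomologicalComplex.biprodXIso E F i))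
  exact (biprod_isZero_iff _ _).2 ⟨h i (by omega), h' i (by omega)⟩

theorem isStrictlyPerfect_cylinder {E : CochainComplex X.Modules ℤ} (hE : DCoh.IsStrictlyPerfect E) :
    DCoh.IsStrictlyPerfect (HomologicalComplex.cylinder E) :=
  PerfLib.isStrictlyPerfect_cone (biprod.lift (𝟙 E) (-𝟙 E)) hE (isStrictlyPerfect_biprod hE hE)

/-- The full subcategory of strictly perfect complexes. -/
abbrev SP (X : Scheme.{u}) := ObjectProperty.FullSubcategory (fun E : CochainComplex X.Modules ℤ => DCoh.IsStrictlyPerfect E)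

/-- Quasi-isomorphisms of strictly perfect complexes. -/
abbrev qisSP (X : Scheme.{u}) : MorphismProperty (SP X) :=
  (HomologicalComplex.quasiIso X.Modules (ComplexShape.up ℤ)).inverseImage
    (ObjectProperty.ι (fun E : CochainComplex X.Modules ℤ => DCoh.IsStrictlyPerfect E))

/-- Homotopic maps agree after inverting quasi-isomorphisms. -/
theorem Q_map_eq_of_homotopy {E F : SP X} (α β : E ⟶ F) (H : Homotopy α.hom β.hom) :
    (qisSP X).Q.map α = (qisSP X).Q.map β := by
  let Z : SP X := ⟨HomologicalComplex.cylinder E.obj, isStrictlyPerfect_cylinder E.property⟩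
  let i₀ : E ⟶ Z := ObjectProperty.homMk (HomologicalComplex.cylinder.ι₀ E.obj)
  let i₁ : E ⟶ Z := ObjectProperty.homMk (HomologicalComplex.cylinder.ι₁ E.obj)
  let p : Z ⟶ E := ObjectProperty.homMk (HomologicalComplex.cylinder.π E.obj)
  let d : Z ⟶ F := ObjectProperty.homMk (HomologicalComplex.cylinder.desc α.hom β.hom H)
  have hp : qisSP X p := by
    show QuasiIso (HomologicalComplex.cylinder.π E.obj)
    exact inferInstanceAs (QuasiIso (HomologicalComplex.cylinder.homotopyEquiv E.obj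
      (fun j => ⟨j - 1, by simp⟩)).hom)
  haveI := Localization.inverts (qisSP X).Q (qisSP X) p hp
  have h01 : (qisSP X).Q.map i₀ = (qisSP X).Q.map i₁ := by
    rw [← cancel_mono ((qisSP X).Q.map p), ← Functor.map_comp, ← Functor.map_comp]
    congr 1
    ext1
    simp [i₀, i₁, p]
  calc (qisSP X).Q.map α = (qisSP X).Q.map (i₀ ≫ d) := by congr 1; ext1; simp [i₀, d]
    _ = (qisSP X).Q.map (i₁ ≫ d) := by rw [Functor.map_comp, Functor.map_comp, h01]
    _ = (qisSP X).Q.map β := by congr 1; ext1; simp [i₁, d]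

/-- Perfect objects form the localization of strictly perfect complexes. -/
theorem isLocalization_perfect [CompactSpace X] [QuasiSeparatedSpace X] [HasExt.{u} X.Modules]
    (hX : PerfAux.HasResolutionProperty X)
    (h : ∀ E : SP X, DCoh.IsPerfect ((ObjectProperty.ι (fun E : CochainComplex X.Modules ℤ => DCoh.IsStrictlyPerfect E) ⋙ DerivedCategory.Q).obj E)) :
    (ObjectProperty.lift (fun K : DCoh.D X => DCoh.IsPerfect K)
      (ObjectProperty.ι (fun E : CochainComplex X.Modules ℤ => DCoh.IsStrictlyPerfect E) ⋙ DerivedCategory.Q) h).IsLocalization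
      (qisSP X) := by
  haveI : (qisSP X).IsStableUnderComposition := inferInstance
  refine isLocalization_of_roofs _ _ ?_ ⟨fun K => ?_⟩ (fun E => ?_) (fun E F α => ?_) (fun E F α β e => ?_)
  · intro A B f hf
    haveI : QuasiIso f.hom := hf
    haveI : IsIso (DerivedCategory.Q.map f.hom) := inferInstance
    rw [← isIso_iff_of_reflects_iso _ (ObjectProperty.ι _)]
    exact ‹IsIso (DerivedCategory.Q.map f.hom)›
  · obtain ⟨E, hE, ⟨e⟩⟩ := exists_strictlyPerfect_iso hX K.obj K.property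
    exact ⟨⟨E, hE⟩, ⟨ObjectProperty.isoMk _ e⟩⟩
  · show QuasiIso (𝟙 E.obj)
    infer_instance
  · obtain ⟨G, g, k, hG, hg, e⟩ := exists_roof hX E.property F.property α.hom
    exact ⟨⟨G, hG⟩, ObjectProperty.homMk g, ObjectProperty.homMk k, hg, by ext1; exact e⟩
  · obtain ⟨G, γ, hG, hγ, ⟨H⟩⟩ := exists_homotopy_after hX E.property F.property α.hom β.hom
      (congrArg (fun φ => φ.hom) e)
    let g : (⟨G, hG⟩ : SP X) ⟶ E := ObjectProperty.homMk γ
    haveI := Localization.inverts (qisSP X).Q (qisSP X) g hγ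
    rw [← cancel_epi ((qisSP X).Q.map g), ← Functor.map_comp, ← Functor.map_comp]
    exact Q_map_eq_of_homotopy (g ≫ α) (g ≫ β) H

end Perfect

end ResPropLib
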